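import Cfsg.Agent.Lib.JankoFour.Thompson.Fixed
import Cfsg.Agent.Lib.LargeFischer.Thompson.Base

/-!
# The elementary group of order `2^11` in the group itself
-/

set_option autoImplicit false
set_option linter.unusedSectionVars false
set_option maxHeartbeats 1000000

namespace CfsgLib.JankoFour.Thompson

open Subgroup QuadraticMap
open CfsgLib.LargeFischer (fixSub perpSub vadd_self eq_of_vadd)
open CfsgLib.LargeFischer.Thompson (val elem_comap elem_map')

variable {G : Type*} [Group G] [Finite G] {z : G}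

/-- The configuration. -/
structure Ctx (Q : Subgroup (centralizer ({z} : Set G))) [Q.Normal] {V : Type*} [AddCommGroup V]
    [Module (ZMod 2) V] [DistribMulAction ((centralizer ({z} : Set G)) ⧸ Q) V] [Finite V]
    (q : QuadraticForm (ZMod 2) V) (π : ↥Q → V) (n : (centralizer ({z} : Set G)) ⧸ Q)
    (M : Subgroup ((centralizer ({z} : Set G)) ⧸ Q)) (φ : ↥M →* ↥Cfsg.Spor.M22) (s : V)
    (A : Subgroup G) (Ab : Subgroup ((centralizer ({z} : Set G)) ⧸ Q)) : Prop where
  mdl : Model z Q q π n M φ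
  le : A ≤ centralizer ({z} : Set G)
  elem : Cfsg.IsElementaryAbelian 2 A
  card : Nat.card ↥A = 2 ^ 11
  oth : Other q n M φ s Ab
  img : Ab = (A.subgroupOf (centralizer ({z} : Set G))).map (QuotientGroup.mk' Q)
  mem_Q : ∀ a : ↥Q, val a ∈ A ↔ π a ∈ (fixSub Ab : AddSubgroup V)
  uniq : ∀ B P : Subgroup G, Cfsg.IsElementaryAbelian 2 B → 2 ^ 11 ≤ Nat.card ↥B → IsPGroup 2 ↥P → A ≤ P →
    B ≤ P → B = A

section Exists

variable {Q : Subgroup (centralizer ({z} : Set G))} [Q.Normal] {V : Type*} [AddCommGroup V] [Module (ZMod 2) V]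
  [DistribMulAction ((centralizer ({z} : Set G)) ⧸ Q) V] [Finite V] {q : QuadraticForm (ZMod 2) V} {π : ↥Q → V}
  {n : (centralizer ({z} : Set G)) ⧸ Q} {M : Subgroup ((centralizer ({z} : Set G)) ⧸ Q)} {φ : ↥M →* ↥Cfsg.Spor.M22}

theorem z_central_eq (m : Model z Q q π n M φ)
    {S : Subgroup (centralizer ({z} : Set G))} (hQS : Q ≤ S) {c : centralizer ({z} : Set G)}
    (hc : ∀ y ∈ S, c * y = y * c) : (c : G) = 1 ∨ (c : G) = z := by
  have hcQ : c ∈ Q := m.self c fun x hx => hc x (hQS hx)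
  refine (m.ker ⟨c, hcQ⟩).1 (m.core.nondeg _ fun w => ?_)
  obtain ⟨b, rfl⟩ := m.surj w
  exact (m.comm_iff ⟨c, hcQ⟩ b).2 (hc b (hQS b.2))

theorem exists_ctx (m : Model z Q q π n M φ) :
    ∃ (s : V) (A : Subgroup G)
      (Ab : Subgroup ((centralizer ({z} : Set G)) ⧸ Q)) (T₀ : Sylow 2 G),
      Ctx Q q π n M φ s A Ab ∧ A ≤ (T₀ : Subgroup G) := by
  classical
  haveI := Fact.mk Nat.prime_two
  obtain ⟨s, hs⟩ := m.exists_class
  obtain ⟨B, hB, hBc⟩ := m.exists_big hs
  obtain ⟨hBc', hBQ, Ab, hAb, hex, hmemQ⟩ := m.big_facts hs hB hBc.ge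
  obtain ⟨S, hBS⟩ := (IsPGroup.of_card hBc).exists_le_sylow
  have hQ2 : IsPGroup 2 ↥Q := IsPGroup.of_card (m.cardQ : Nat.card ↥Q = 2 ^ (2 * 6 + 1))
  have hQS : Q ≤ (S : Subgroup _) := by
    exact le_sup_right.trans (S.3 (S.2.to_sup_of_normal_right hQ2) le_sup_left).le
  set T₀ := (S : Subgroup (centralizer ({z} : Set G))).map (centralizer ({z} : Set G)).subtype with hT₀
  have hT₀p : IsPGroup 2 ↥T₀ := S.2.map _
  have hzT : z ∈ T₀ ∧ ∀ y ∈ T₀, y * z = z * y := by
    refine ⟨?_, fun y hy => mem_centralizer_singleton_iff.1 (map_subtype_le _ hy)⟩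
    obtain ⟨zQ, hzQ, -⟩ := m.exists_zQ
    exact ⟨_, hQS zQ.2, hzQ⟩
  -- the Sylow subgroup of the centraliser is one of the whole group
  obtain ⟨P, hP⟩ := hT₀p.exists_le_sylow
  have hPT : (P : Subgroup G) = T₀ := by
    by_contra hne
    haveI : Group.IsNilpotent ↥(P : Subgroup G) := P.2.isNilpotent
    have hlt : T₀.subgroupOf (P : Subgroup G) < ⊤ := lt_top_iff_ne_top.2 fun e =>
      hne (le_antisymm (subgroupOf_eq_top.1 e) hP)
    obtain ⟨k, hk, hkn⟩ := SetLike.exists_of_lt (Group.normalizerCondition_of_isNilpotent _ hlt)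
    have hkN : ∀ y, y ∈ T₀ ↔ (k : G) * y * (k : G)⁻¹ ∈ T₀ := fun y => by
      constructor
      · intro hy
        exact (mem_normalizer_iff.1 hk ⟨y, hP hy⟩).1 hy
      · intro hy
        have hy' : y ∈ (P : Subgroup G) := by
          have := mul_mem (mul_mem (inv_mem k.2) (hP hy)) k.2
          simpa [mul_assoc] using this
        exact (mem_normalizer_iff.1 hk ⟨y, hy'⟩).2 hy
    have hkz : (k : G) * z = z * (k : G) := by
      obtain ⟨c, hcS, hce⟩ := (hkN z).1 hzT.1
      have h := z_central_eq m hQS (c := c) fun y hy => Subtype.ext (by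
        show (c : G) * (y : G) = (y : G) * (c : G)
        rw [show (c : G) = (k : G) * z * (k : G)⁻¹ from hce]
        have hy' : (k : G)⁻¹ * (y : G) * (k : G) ∈ T₀ := (hkN _).2 (by simpa [mul_assoc] using ⟨y, hy, rfl⟩)
        calc (k : G) * z * (k : G)⁻¹ * (y : G) = (k : G) * (z * ((k : G)⁻¹ * y * k)) * (k : G)⁻¹ := by group
          _ = _ := by rw [← hzT.2 _ hy']; group)
      rw [show (c : G) = (k : G) * z * (k : G)⁻¹ from hce] at h
      rcases h with e | e
      · exfalso
        have := m.ordz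
        rw [conj_eq_one_iff.1 e, orderOf_one] at this
        omega
      · exact mul_inv_eq_iff_eq_mul.1 e
    set kc : centralizer ({z} : Set G) := ⟨k, mem_centralizer_singleton_iff.2 hkz⟩
    have hS' : (S : Subgroup _) = (P : Subgroup G).subgroupOf (centralizer ({z} : Set G)) :=
      (S.3 (P.2.comap_subtype) fun y hy => hP ⟨y, hy, rfl⟩).symm
    refine hkn ?_
    show (k : G) ∈ T₀
    exact ⟨kc, hS'.symm ▸ k.2, rfl⟩
  set A := B.map (centralizer ({z} : Set G)).subtype with hA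
  have hsub : A.subgroupOf (centralizer ({z} : Set G)) = B :=
    comap_map_eq_self_of_injective (subtype_injective _) B
  have hAT : A ≤ T₀ := map_mono hBS
  have hA11 : Nat.card ↥A = 2 ^ 11 := by rw [hA, card_map_of_injective (subtype_injective _), hBc]
  have hinT : ∀ C : Subgroup G, Cfsg.IsElementaryAbelian 2 C → 2 ^ 11 ≤ Nat.card ↥C → C ≤ T₀ → C = A := by
    intro C hC h11 hCT
    have hCH : C ≤ centralizer ({z} : Set G) := hCT.trans (map_subtype_le _)
    have e := m.big_unique hs S.2 (B := C.subgroupOf (centralizer ({z} : Set G)))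
      (fun y hy => by
        obtain ⟨w, hw, e⟩ := hCT hy
        rwa [show w = y from Subtype.ext e] at hw)
      hBS (elem_comap (subtype_injective _) hC)
      (by rwa [Nat.card_congr (subgroupOfEquivOfLe hCH).toEquiv]) hB hBc.ge
    rw [hA, ← e, subgroupOf_map_subtype, inf_eq_left.2 hCH]
  refine ⟨s, A, Ab, P, ⟨m, map_subtype_le _, elem_map' _ hB, hA11, ⟨m.core, hs, hex⟩, by rw [hsub]; exact hAb,
    fun a => ?_, ?_⟩, hPT ▸ hAT⟩
  · rw [← hmemQ, ← hsub]
    rfl
  · intro C R hC h11 hR hAR hCR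
    obtain ⟨R', hR'⟩ := hR.exists_le_sylow
    obtain ⟨k, hk⟩ := MulAction.exists_smul_eq G R' P
    have hmv : ∀ X : Subgroup G, X ≤ R → X.map (MulAut.conj k).toMonoidHom ≤ T₀ := by
      rintro X hX _ ⟨y, hy, rfl⟩
      rw [← hPT, ← hk]
      exact Subgroup.smul_mem_pointwise_smul y (MulAut.conj k) (R' : Subgroup G) (hR' (hX hy))
    have e1 := hinT _ (elem_map' (MulAut.conj k).toMonoidHom hC)
      (by rw [card_map_of_injective (MulEquiv.injective _)]; exact h11) (hmv C hCR)
    have e2 := hinT _ (elem_map' (MulAut.conj k).toMonoidHom (elem_map' _ hB))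
      (by rw [card_map_of_injective (MulEquiv.injective _)]; exact hA11.ge) (hmv A hAR)
    exact map_injective (MulEquiv.injective _) (e1.trans e2.symm)

end Exists

end CfsgLib.JankoFour.Thompson
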