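import Cfsg.Agent.Lib.JankoFour.Thompson.Six
import Mathlib.Combinatorics.Enumerative.DoubleCounting

/-!
# The 276 elements: cosets, degree, the pair of lines of a coset
-/

set_option autoImplicit false
set_option linter.unusedSectionVars false
set_option linter.style.haveILetI false
set_option maxHeartbeats 1000000

namespace CfsgLib.JankoFour.Thompson

open Subgroup QuadraticMap
open CfsgLib.LargeFischer (fixSub perpSub vadd_self eq_of_vadd)
open CfsgLib.LargeFischer.Thompson (val elem_comap elem_map' three_dvd)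

variable {G : Type*} [Group G] [Finite G] {z : G}
  {Q : Subgroup (centralizer ({z} : Set G))} [Q.Normal] {V : Type*} [AddCommGroup V] [Module (ZMod 2) V]
  [DistribMulAction ((centralizer ({z} : Set G)) ⧸ Q) V] [Finite V] {q : QuadraticForm (ZMod 2) V} {π : ↥Q → V}
  {n : (centralizer ({z} : Set G)) ⧸ Q} {M : Subgroup ((centralizer ({z} : Set G)) ⧸ Q)} {φ : ↥M →* ↥Cfsg.Spor.M22}
  {s : V}
  {A : Subgroup G} {Ab : Subgroup ((centralizer ({z} : Set G)) ⧸ Q)}

open scoped _root_.Classical in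
/-- The image in the quotient, extended to the whole group. -/
noncomputable def imK (Q : Subgroup (centralizer ({z} : Set G))) [Q.Normal] (a : G) :
    (centralizer ({z} : Set G)) ⧸ Q :=
  if h : a ∈ centralizer ({z} : Set G) then QuotientGroup.mk' Q ⟨a, h⟩ else 1

theorem imK_eq {a : G} (h : a ∈ centralizer ({z} : Set G)) : imK Q a = QuotientGroup.mk' Q ⟨a, h⟩ := dif_pos h

theorem imK_coe (w : centralizer ({z} : Set G)) : imK Q (w : G) = QuotientGroup.mk' Q w := imK_eq w.2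

theorem imK_mul {a b : G} (ha : a ∈ centralizer ({z} : Set G)) (hb : b ∈ centralizer ({z} : Set G)) :
    imK Q (a * b) = imK Q a * imK Q b := by
  rw [imK_eq ha, imK_eq hb, imK_eq (mul_mem ha hb), ← map_mul]
  rfl

theorem imK_val (u : ↥Q) : imK Q (val u) = 1 := by
  rw [imK_coe]
  exact (QuotientGroup.eq_one_iff _).2 u.2

/-- The elements over a coset among the 276. -/
def cosetN (Q : Subgroup (centralizer ({z} : Set G))) [Q.Normal] (A : Subgroup G)
    (k : (centralizer ({z} : Set G)) ⧸ Q) : Set G := {a | a ∈ Ns z A ∧ imK Q a = k}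

/-- The neighbours of an element. -/
def nb (z : G) (A : Subgroup G) (d : G) : Set G := {e | e ∈ Ns z A ∧ d * e ∈ Ns z A}

namespace Ctx

variable (c : Ctx Q q π n M φ s A Ab)
include c

theorem imK_mem {a : G} (ha : a ∈ A) : imK Q a ∈ Ab := by
  rw [imK_eq (c.le ha)]; exact c.mk_mem (w := ⟨a, c.le ha⟩) ha

theorem imK_eq_one {a : G} (ha : a ∈ A) : imK Q a = 1 ↔ ∃ u : ↥Q, val u = a := by
  rw [imK_eq (c.le ha)]; exact (c.inner_iff ha).symm

theorem imK_conj {m : centralizer ({z} : Set G)} {a : G} (ha : a ∈ A) :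
    imK Q ((m : G) * a * (m : G)⁻¹) = QuotientGroup.mk' Q m * imK Q a * (QuotientGroup.mk' Q m)⁻¹ := by
  rw [imK_eq (c.le ha), ← map_inv, ← map_mul, ← map_mul, ← imK_coe]
  rfl

theorem val_nc {u : ↥Q} : val u ∈ Ns z A ↔ π u ∈ ncset Ab s := by
  constructor
  · rintro ⟨hA, h1, hnc⟩
    have h0 : π u ≠ 0 := fun e => by
      rcases (c.mdl.ker u).1 e with e' | e'
      · exact h1 e'
      · exact hnc (by rw [show val u = z from e'])
    exact ⟨(c.mem_Q u).1 hA, h0, fun h => hnc ((c.isConj_iff_orbit h0).2 h)⟩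
  · rintro ⟨hF, h0, ho⟩
    exact ⟨(c.mem_Q u).2 hF, fun e => h0 ((c.mdl.ker u).2 (.inl e)), fun h => ho ((c.isConj_iff_orbit h0).1 h)⟩

theorem cosetN_card {k : (centralizer ({z} : Set G)) ⧸ Q} (hk : k ∈ Ab) (hk1 : k ≠ 1) :
    (cosetN Q A k).ncard = 16 := by
  classical
  letI := Fintype.ofFinite G
  letI := Fintype.ofFinite ((centralizer ({z} : Set G)) ⧸ Q)
  have hle : ∀ k ∈ Ab, k ≠ 1 → ∀ k' ∈ Ab, k' ≠ 1 → (cosetN Q A k).ncard ≤ (cosetN Q A k').ncard := by
    intro k hk hk1 k' hk' hk'1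
    obtain ⟨y, hyN, -, hy⟩ := c.oth.transitive hk hk1 hk' hk'1
    obtain ⟨w, rfl⟩ := QuotientGroup.mk'_surjective Q y
    refine Set.ncard_le_ncard_of_injOn (fun a => (w : G) * a * (w : G)⁻¹) (fun a ha => ?_)
      (fun a _ b _ e => mul_left_cancel (mul_right_cancel e)) (Set.toFinite _)
    exact ⟨c.Ns_conj (c.mem_N_iff.2 hyN) ha.1, by rw [c.imK_conj ha.1.1, ha.2, hy]⟩
  set S := (Ns z A ∩ outer Q A).toFinset
  set I := ((Ab : Set ((centralizer ({z} : Set G)) ⧸ Q)) \ {1}).toFinset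
  have hmap : ∀ a ∈ S, imK Q a ∈ I := fun a ha => by
    rw [Set.mem_toFinset] at ha ⊢
    exact ⟨c.imK_mem ha.1.1, fun e => ha.2.2 ((c.imK_eq_one ha.1.1).1 e)⟩
  have h := Finset.card_eq_sum_card_fiberwise hmap
  rw [Finset.sum_const_nat (m := (cosetN Q A k).ncard) fun k' hk' => ?_] at h
  · rw [← Set.ncard_eq_toFinset_card', c.Ns_counts.2.2, ← Set.ncard_eq_toFinset_card',
      Set.ncard_sdiff (Set.singleton_subset_iff.2 (one_mem Ab)), Set.ncard_singleton, ← Nat.card_coe_set_eq,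
      SetLike.coe_sort_coe, c.oth.card] at h
    omega
  · rw [Set.mem_toFinset] at hk'
    rw [show (cosetN Q A k).ncard = (cosetN Q A k').ncard from
      le_antisymm (hle k hk hk1 k' hk'.1 hk'.2) (hle k' hk'.1 hk'.2 k hk hk1)]
    rw [← Set.ncard_coe_finset]
    congr 1
    ext a
    simp only [Finset.coe_filter, S, Set.mem_toFinset, Set.mem_setOf_eq]
    exact ⟨fun h => ⟨h.1.1, h.2⟩, fun h => ⟨⟨h.1, h.1.1, fun hu => hk'.2 (h.2 ▸ (c.imK_eq_one h.1.1).2 hu)⟩, h.2⟩⟩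

/-- The elements over a coset correspond to the commutator space. -/
theorem coset_struct {k : (centralizer ({z} : Set G)) ⧸ Q} (hk1 : k ≠ 1) {a : G} (ha : a ∈ cosetN Q A k) :
    Nat.card ↥(rg k : AddSubgroup V) = 16 ∧
    (∀ v ∈ (rg k : AddSubgroup V), ∃ u : ↥Q, π u = v ∧ val u ∈ A ∧ a * val u ∈ Ns z A) ∧
    (∀ b ∈ cosetN Q A k, ∃ u : ↥Q, val u ∈ A ∧ π u ∈ (rg k : AddSubgroup V) ∧ b = a * val u) ∧
    (∀ u u' : ↥Q, val u ∈ A → val u' ∈ A → a * val u ∈ Ns z A → a * val u' ∈ Ns z A → π u = π u' → u = u') := by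
  classical
  have hk : k ∈ Ab := ha.2 ▸ c.imK_mem ha.1.1
  have hex : ∀ v : ↥(rg k : AddSubgroup V), ∃ u : ↥Q, π u = (v : V) ∧ val u ∈ A ∧ a * val u ∈ Ns z A := by
    rintro ⟨v, hv⟩
    obtain ⟨y, rfl⟩ := hv
    obtain ⟨b, rfl⟩ := c.mdl.surj y
    obtain ⟨u, huA, hu, hpu⟩ := c.comm_q ha.1.1 b
    rw [← imK_eq, ha.2] at hpu
    exact ⟨u, hpu, huA, hu ▸ c.Ns_conj (c.q_mem_N b) ha.1⟩
  choose f hf using hex
  let g : ↥(rg k : AddSubgroup V) → ↥(cosetN Q A k) := fun v => ⟨a * val (f v), (hf v).2.2, by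
    rw [imK_mul (c.le ha.1.1) (f v : centralizer ({z} : Set G)).2, imK_val, mul_one, ha.2]⟩
  have hg : Function.Injective g := fun v v' e => Subtype.ext (by
    rw [← (hf v).1, ← (hf v').1, c.im_inj ha.1.1 (congrArg Subtype.val e)])
  have h16 : Nat.card ↥(cosetN Q A k) = 16 := by rw [Nat.card_coe_set_eq, c.cosetN_card hk hk1]
  have hr : Nat.card ↥(rg k : AddSubgroup V) = 16 := by
    have h := Nat.card_le_card_of_injective g hg
    rw [h16] at h
    exact c.oth.rg_card hk hk1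
  have hsurj := (hg.bijective_of_nat_card_le (by rw [h16, hr])).2
  refine ⟨hr, fun v hv => ⟨_, hf ⟨v, hv⟩⟩, fun b hb => ?_, fun u u' hu hu' hN hN' e => ?_⟩
  · obtain ⟨v, hv⟩ := hsurj ⟨b, hb⟩
    exact ⟨f v, (hf v).2.1, (hf v).1.symm ▸ v.2, (congrArg Subtype.val hv).symm⟩
  · have key : ∀ w : ↥Q, a * val w ∈ Ns z A → ∃ v, f v = w := fun w hw => by
      obtain ⟨v, hv⟩ := hsurj ⟨a * val w, hw, by
        rw [imK_mul (c.le ha.1.1) (w : centralizer ({z} : Set G)).2, imK_val, mul_one, ha.2]⟩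
      exact ⟨v, c.im_inj ha.1.1 (congrArg Subtype.val hv)⟩
    obtain ⟨v, rfl⟩ := key u hN
    obtain ⟨v', rfl⟩ := key u' hN'
    rw [(hf v).1, (hf v').1] at e
    rw [Subtype.ext e]

theorem no_z_pair {a : G} (ha : a ∈ Ns z A) (ho : ¬ ∃ u : ↥Q, val u = a) : z * a ∉ Ns z A := by
  intro hz
  obtain ⟨z₀, hz₀, hz0⟩ := c.z_val
  obtain ⟨-, -, -, hu⟩ := c.coset_struct (fun e => ho ((c.imK_eq_one ha.1).1 e)) (a := a) ⟨ha, rfl⟩
  have e := hu 1 z₀ (one_mem A) (hz₀.symm ▸ c.z_mem) (by simpa [val] using ha)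
    (by rw [hz₀, c.comm ha.1 c.z_mem]; exact hz) (by rw [c.mdl.pi_one, hz0])
  exact c.z_ne (hz₀.symm.trans (congrArg val e.symm))

/-- Each of the 276 has forty-four neighbours. -/
theorem degree {d : G} (hd : d ∈ Ns z A) : (nb z A d).ncard = 44 := by
  classical
  letI := Fintype.ofFinite G
  set N := Subgroup.normalizer (A : Set G)
  have hz36 : ({x : G | x ∈ Ns z A ∧ z * x ∈ Ns z A}).ncard = 36 := by
    rw [show {x : G | x ∈ Ns z A ∧ z * x ∈ Ns z A} = Ns z A ∩ inner Q A from Set.ext fun x => ?_, c.Ns_counts.2.1]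
    constructor
    · intro hx
      exact ⟨hx.1, hx.1.1, by_contra fun h => c.no_z_pair hx.1 h hx.2⟩
    · rintro ⟨hx, -, u, rfl⟩
      obtain ⟨b, hb⟩ := c.fibre (c.val_nc.1 hx).2.1
      refine ⟨hx, ?_⟩
      rw [← c.comm hx.1 c.z_mem, ← hb]
      exact c.Ns_conj (c.q_mem_N b) hx
  let R : G → G → Prop := fun a x => a * x ∈ Ns z A
  have habove : ∀ a ∈ (Zs z A).toFinset, (((Ns z A).toFinset).bipartiteAbove R a).card = 36 := by
    intro a ha
    rw [Set.mem_toFinset] at ha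
    obtain ⟨g, hg⟩ := isConj_iff.1 ha.2
    obtain ⟨m, hm, e⟩ := c.fusion c.z_mem (g := g) (hg ▸ ha.1)
    rw [hg] at e
    rw [← hz36, ← Set.ncard_coe_finset,
      ← Set.ncard_image_of_injective {x : G | x ∈ Ns z A ∧ z * x ∈ Ns z A} (MulAut.conj m).injective]
    congr 1
    ext x
    simp only [Finset.coe_bipartiteAbove, Set.mem_toFinset, Set.mem_setOf_eq, Set.mem_image, MulAut.conj_apply, R]
    constructor
    · rintro ⟨hx, hax⟩
      refine ⟨m⁻¹ * x * m, ⟨?_, ?_⟩, by group⟩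
      · simpa using c.Ns_conj (inv_mem hm) hx
      · have := c.Ns_conj (inv_mem hm) hax
        rw [← e] at this
        simpa [mul_assoc] using this
    · rintro ⟨y, ⟨hy, hzy⟩, rfl⟩
      refine ⟨c.Ns_conj hm hy, ?_⟩
      rw [← e]
      simpa [mul_assoc] using c.Ns_conj hm hzy
  let m₀ : G → ℕ := fun x => ({e : G | e ∈ Ns z A ∧ x * e ∈ Zs z A}).ncard
  have hconst : ∀ x ∈ Ns z A, m₀ x = m₀ d := by
    intro x hx
    obtain ⟨m, hm, e⟩ := c.Ns_trans hd hx
    show _ = _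
    rw [show m₀ x = ({e : G | e ∈ Ns z A ∧ x * e ∈ Zs z A}).ncard from rfl]
    show _ = ({e : G | e ∈ Ns z A ∧ d * e ∈ Zs z A}).ncard
    rw [← Set.ncard_image_of_injective {e : G | e ∈ Ns z A ∧ d * e ∈ Zs z A} (MulAut.conj m).injective]
    congr 1
    ext y
    simp only [Set.mem_setOf_eq, Set.mem_image, MulAut.conj_apply]
    constructor
    · rintro ⟨hy, hxy⟩
      refine ⟨m⁻¹ * y * m, ⟨?_, ?_⟩, by group⟩
      · simpa using c.Ns_conj (inv_mem hm) hy
      · refine ⟨mul_mem hd.1 (by simpa using c.conj_mem (inv_mem hm) hy.1), hxy.2.trans (isConj_iff.2 ⟨m⁻¹, ?_⟩)⟩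
        rw [← e]; group
    · rintro ⟨w, ⟨hw, hdw⟩, rfl⟩
      refine ⟨c.Ns_conj hm hw, mul_mem hx.1 (c.conj_mem hm hw.1), hdw.2.trans (isConj_iff.2 ⟨m, ?_⟩)⟩
      rw [← e]; group
  have hbelow : ∀ x ∈ (Ns z A).toFinset, (((Zs z A).toFinset).bipartiteBelow R x).card = m₀ d := by
    intro x hx
    rw [Set.mem_toFinset] at hx
    rw [← hconst x hx, ← Set.ncard_coe_finset]
    show _ = ({e : G | e ∈ Ns z A ∧ x * e ∈ Zs z A}).ncard
    rw [← Set.ncard_image_of_injective {e : G | e ∈ Ns z A ∧ x * e ∈ Zs z A} (mul_right_injective x)]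
    congr 1
    ext y
    simp only [Finset.coe_bipartiteBelow, Set.mem_toFinset, Set.mem_setOf_eq, Set.mem_image, R]
    constructor
    · rintro ⟨hy, hyx⟩
      refine ⟨y * x, ⟨hyx, ?_⟩, ?_⟩ <;>
      · rw [c.comm hy.1 hx.1, ← mul_assoc, c.sq hx.1, one_mul]
        try exact hy
    · rintro ⟨w, ⟨hw, hxw⟩, rfl⟩
      refine ⟨hxw, ?_⟩
      rw [c.comm (mul_mem hx.1 hw.1) hx.1, ← mul_assoc, c.sq hx.1, one_mul]
      exact hw
  have h := Finset.sum_card_bipartiteAbove_eq_sum_card_bipartiteBelow (s := (Zs z A).toFinset)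
    (t := (Ns z A).toFinset) R
  rw [Finset.sum_const_nat habove, Finset.sum_const_nat hbelow, ← Set.ncard_eq_toFinset_card',
    ← Set.ncard_eq_toFinset_card', c.Zs_facts.1, c.Ns_counts.1] at h
  have hsplit : nb z A d ∪ {e : G | e ∈ Ns z A ∧ d * e ∈ Zs z A} = Ns z A \ {d} := by
    ext e
    constructor
    · rintro (⟨he, hde⟩ | ⟨he, hde⟩) <;> refine ⟨he, fun h => ?_⟩ <;> rw [Set.mem_singleton_iff] at h <;>
        rw [h, c.sq hd.1] at hde
      · exact hde.2.1 rfl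
      · exact c.not_isConj_one hde.2
    · rintro ⟨he, hne⟩
      by_cases hz : IsConj z (d * e)
      · exact Or.inr ⟨he, mul_mem hd.1 he.1, hz⟩
      · exact Or.inl ⟨he, mul_mem hd.1 he.1, fun h1 =>
          hne ((inv_eq_of_mul_eq_one_right h1).symm.trans (c.inv hd.1)), hz⟩
  have h2 := Set.ncard_union_eq (s := nb z A d) (t := {e : G | e ∈ Ns z A ∧ d * e ∈ Zs z A})
    (Set.disjoint_left.2 fun e h h' => h.2.2.2 h'.2.2) (Set.toFinite _) (Set.toFinite _)
  rw [hsplit, Set.ncard_sdiff (Set.singleton_subset_iff.2 hd), Set.ncard_singleton, c.Ns_counts.1] at h2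
  have hm : m₀ d = ({e : G | e ∈ Ns z A ∧ d * e ∈ Zs z A}).ncard := rfl
  omega

variable {T : Fin 6 → V} {nt : centralizer ({z} : Set G)} (d : SixData n M Ab s T nt)
include d

theorem mem_span_of_line {i j r : Fin 6} {x : V} (hx : x ≠ 0) (hr : x ∈ ln n (T r)) (h : x ∈ span2 n (T i) (T j)) :
    T r ∈ span2 n (T i) (T j) := by
  obtain ⟨⟨a, b⟩, ⟨ha, hb⟩, e⟩ := h
  have hT := c.oth.ln_disjoint hr hx (Or.inr (Or.inl rfl))
  rcases hT with y | y | y | y
  · exact absurd y (c.T_ne d r)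
  · exact y ▸ ⟨(a, b), ⟨ha, hb⟩, e⟩
  · exact y ▸ ⟨(n • a, n • b), ⟨c.oth.ln_smul ha, c.oth.ln_smul hb⟩, e ▸ (smul_add n a b).symm⟩
  · exact y ▸ ⟨(n • n • a, n • n • b), ⟨c.oth.ln_smul (c.oth.ln_smul ha), c.oth.ln_smul (c.oth.ln_smul hb)⟩,
      e ▸ ((smul_add n _ _).symm.trans (congrArg (n • ·) (smul_add n a b).symm))⟩

/-- A non-central vector of a span lies on one of its lines. -/
theorem span_nc {i j : Fin 6} (hij : i ≠ j) {x : V} (hx : x ∈ ncset Ab s) (h : x ∈ span2 n (T i) (T j)) :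
    x ∈ ln n (T i) ∨ x ∈ ln n (T j) := by
  obtain ⟨r, hr⟩ := d.cover x hx
  by_cases h1 : r = i
  · exact Or.inl (h1 ▸ hr)
  by_cases h2 : r = j
  · exact Or.inr (h2 ▸ hr)
  exact absurd (c.mem_span_of_line d hx.2.1 hr h) (c.not_collinear d hij (Ne.symm h1) (Ne.symm h2))

theorem rg_eq_span {k : (centralizer ({z} : Set G)) ⧸ Q} (hk : k ∈ Ab) (hk1 : k ≠ 1) {i j : Fin 6} (hij : i ≠ j)
    (hi : T i ∈ (rg k : AddSubgroup V)) (hj : T j ∈ (rg k : AddSubgroup V)) :
    span2 n (T i) (T j) = ((rg k : AddSubgroup V) : Set V) := by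
  obtain ⟨a, ha⟩ := (Set.ncard_pos (Set.toFinite _)).1
    (show 0 < (cosetN Q A k).ncard by rw [c.cosetN_card hk hk1]; norm_num)
  refine Set.eq_of_subset_of_ncard_le ?_ ?_ (Set.toFinite _)
  · rintro _ ⟨⟨x, y⟩, ⟨hx, hy⟩, rfl⟩
    exact AddSubgroup.add_mem _ (c.oth.ln_subset (fun _ => c.oth.rg_n hk) hi hx)
      (c.oth.ln_subset (fun _ => c.oth.rg_n hk) hj hy)
  · rw [span2, c.oth.span_two (c.T_ne d i) (fun h => hij (d.indep i j h)), ← Nat.card_coe_set_eq,
      SetLike.coe_sort_coe, (c.coset_struct hk1 ha).1]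

/-- A translation by an element of the fibre keeps half of a coset. -/
theorem coset_half {k : (centralizer ({z} : Set G)) ⧸ Q} (hk : k ∈ Ab) (hk1 : k ≠ 1) {u : ↥Q} (huN : val u ∈ Ns z A)
    (hu : π u ∈ (rg k : AddSubgroup V)) :
    ({e : G | e ∈ cosetN Q A k ∧ val u * e ∈ Ns z A}).ncard = 8 := by
  obtain ⟨z₀, hz₀, hz0⟩ := c.z_val
  obtain ⟨b, hb⟩ := c.fibre (c.val_nc.1 huN).2.1
  have hbz : ∀ a : G, val b * a * (val b)⁻¹ = val b * a * (val b)⁻¹ := fun _ => rfl
  set S := {e : G | e ∈ cosetN Q A k ∧ val u * e ∈ Ns z A}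
  set S' := {e : G | e ∈ cosetN Q A k ∧ val u * z * e ∈ Ns z A}
  have hcl : ∀ (w : ↥Q) (e : G), e ∈ cosetN Q A k → val w * e * (val w)⁻¹ ∈ cosetN Q A k := fun w e he =>
    ⟨c.Ns_conj (c.q_mem_N w) he.1, by
      rw [c.imK_conj he.1.1, show QuotientGroup.mk' Q (w : centralizer ({z} : Set G)) = 1 from
        (QuotientGroup.eq_one_iff _).2 w.2, one_mul, inv_one, mul_one, he.2]⟩
  have h1 : S.ncard ≤ S'.ncard := by
    refine Set.ncard_le_ncard_of_injOn (fun e => val b * e * (val b)⁻¹) (fun e he => ⟨hcl b e he.1, ?_⟩)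
      (fun a _ a' _ e => mul_left_cancel (mul_right_cancel e)) (Set.toFinite _)
    rw [← hb]
    have := c.Ns_conj (c.q_mem_N b) he.2
    simpa [mul_assoc] using this
  have h2 : S'.ncard ≤ S.ncard := by
    have hzb : val b * z * (val b)⁻¹ = z := by
      rw [c.comm_z (b : centralizer ({z} : Set G)), mul_inv_cancel_right]
    refine Set.ncard_le_ncard_of_injOn (fun e => val b * e * (val b)⁻¹) (fun e he => ⟨hcl b e he.1, ?_⟩)
      (fun a _ a' _ e => mul_left_cancel (mul_right_cancel e)) (Set.toFinite _)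
    have hthis := c.Ns_conj (c.q_mem_N b) he.2
    rw [show val b * (val u * z * e) * (val b)⁻¹ =
      (val b * val u * (val b)⁻¹) * (val b * z * (val b)⁻¹) * (val b * e * (val b)⁻¹) by group, hb, hzb,
      mul_assoc (val u) z z, c.zz, mul_one] at hthis
    exact hthis
  have hunion : S ∪ S' = cosetN Q A k := by
    refine Set.Subset.antisymm (Set.union_subset (fun e he => he.1) fun e he => he.1) fun e he => ?_
    obtain ⟨-, hex, -, -⟩ := c.coset_struct hk1 he
    obtain ⟨w, hw, hwA, hwN⟩ := hex _ hu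
    rw [c.comm he.1.1 hwA] at hwN
    rcases c.mdl.pi_eq (x := u) (y := w) hw.symm with e' | e'
    · exact Or.inl ⟨he, (show val w = val u from e') ▸ hwN⟩
    · exact Or.inr ⟨he, (show val w = val u * z from e') ▸ hwN⟩
  have hdis : Disjoint S S' := Set.disjoint_left.2 fun e he he' => by
    obtain ⟨-, -, -, huniq⟩ := c.coset_struct hk1 he.1
    have huz : val (u * z₀) = val u * z := congrArg (val u * ·) hz₀
    have hA : val u * z ∈ A := mul_mem huN.1 c.z_mem
    have e1 := huniq u (u * z₀) huN.1 (huz ▸ hA) (c.comm he.1.1.1 huN.1 ▸ he.2)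
      (by rw [huz, c.comm he.1.1.1 hA]; exact he'.2) (by rw [c.mdl.pi_mul, hz0, add_zero])
    exact c.z_ne (hz₀.symm.trans (congrArg val (mul_left_cancel ((mul_one u).trans e1)).symm))
  have h := Set.ncard_union_eq hdis (Set.toFinite S) (Set.toFinite S')
  rw [hunion, c.cosetN_card hk hk1] at h
  omega

/-- Every line is in five commutator spaces. -/
theorem five (i : Fin 6) :
    ({k | k ∈ Ab ∧ k ≠ 1 ∧ T i ∈ (rg k : AddSubgroup V)} : Set ((centralizer ({z} : Set G)) ⧸ Q)).ncard = 5 := by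
  classical
  letI := Fintype.ofFinite G
  letI := Fintype.ofFinite ((centralizer ({z} : Set G)) ⧸ Q)
  obtain ⟨u, hu⟩ := c.mdl.surj (T i)
  have huN : val u ∈ Ns z A := c.val_nc.2 (hu.symm ▸ d.mem i)
  have h44 := c.degree huN
  have hin : (nb z A (val u) ∩ inner Q A).ncard = 4 := by
    have e : nb z A (val u) ∩ inner Q A =
        {a : G | ∃ w : ↥Q, π w ∈ ({n • T i, n • n • T i} : Set V) ∧ val w = a} := by
      ext a
      constructor
      · rintro ⟨⟨ha, hua⟩, -, w, rfl⟩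
        refine ⟨w, ?_, rfl⟩
        have hw := c.val_nc.1 ha
        have huw : π u + π w ∈ ncset Ab s := by rw [← c.mdl.pi_mul]; exact c.val_nc.1 hua
        obtain ⟨j, hj⟩ := d.cover _ hw
        by_cases hji : j = i
        · subst hji
          rcases hj with e | e | e | e
          · exact absurd e hw.2.1
          · exact absurd (by rw [hu, e, vadd_self]) huw.2.1
          · exact Or.inl e
          · exact Or.inr e
        · exfalso
          rcases c.span_nc d (Ne.symm hji) huw ⟨(π u, π w), ⟨hu ▸ Or.inr (Or.inl rfl), hj⟩, rfl⟩ with e | e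
          · have h := c.oth.ln_add (hu ▸ Or.inr (Or.inl rfl) : π u ∈ ln n (T i)) e
            rw [← add_assoc, vadd_self, zero_add] at h
            exact hji (c.line_index d hw.2.1 hj h)
          · have h := c.oth.ln_add e hj
            rw [add_assoc, vadd_self, add_zero] at h
            exact hji (c.line_index d (hu.symm ▸ c.T_ne d i) h (hu ▸ Or.inr (Or.inl rfl)))
      · rintro ⟨w, hw, rfl⟩
        have hnc : π w ∈ ncset Ab s := by
          rcases hw with e | e <;> rw [e]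
          · exact c.nc_smul c.n_normalizes (d.mem i)
          · exact c.nc_smul c.n_normalizes (c.nc_smul c.n_normalizes (d.mem i))
        have hl : π u + π w ∈ ln n (T i) :=
          c.oth.ln_add (hu ▸ Or.inr (Or.inl rfl)) (Or.inr (Or.inr hw))
        have hne : π u + π w ≠ 0 := fun e => by
          have := eq_of_vadd e
          rw [hu] at this
          obtain ⟨a, b, -⟩ := c.oth.n_move (c.T_ne d i)
          rcases hw with e' | e' <;> rw [e'] at this
          · exact a this.symm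
          · exact b this.symm
        have hwN := c.val_nc.2 hnc
        exact ⟨⟨hwN, c.val_nc.2 (by rw [c.mdl.pi_mul]; exact c.ln_nc (d.mem i) hl hne)⟩, hwN.1, w, rfl⟩
    rw [e, c.pre_ncard, Set.ncard_pair (c.oth.n_move (c.T_ne d i)).2.2.1.symm]
  set O := (nb z A (val u) ∩ outer Q A).toFinset
  set I := ({k | k ∈ Ab ∧ k ≠ 1 ∧ T i ∈ (rg k : AddSubgroup V)} : Set ((centralizer ({z} : Set G)) ⧸ Q)).toFinset
  have hmap : ∀ e ∈ O, imK Q e ∈ I := by
    intro e he
    rw [Set.mem_toFinset] at he ⊢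
    have h1 : imK Q e ≠ 1 := fun h => he.2.2 ((c.imK_eq_one he.1.1.1).1 h)
    refine ⟨c.imK_mem he.1.1.1, h1, ?_⟩
    obtain ⟨-, -, hall, -⟩ := c.coset_struct h1 (a := e) ⟨he.1.1, rfl⟩
    have hmem : val u * e ∈ cosetN Q A (imK Q e) := ⟨he.1.2, by
      rw [imK_mul (u : centralizer ({z} : Set G)).2 (c.le he.1.1.1), imK_val, one_mul]⟩
    obtain ⟨w, -, hw, e2⟩ := hall _ hmem
    rw [c.comm huN.1 he.1.1.1] at e2
    rw [← hu, c.im_inj he.1.1.1 e2]
    exact hw
  have h := Finset.card_eq_sum_card_fiberwise hmap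
  rw [Finset.sum_const_nat (m := 8) fun k hk => ?_] at h
  · rw [← Set.ncard_eq_toFinset_card', ← Set.ncard_eq_toFinset_card'] at h
    have hsum : nb z A (val u) = (nb z A (val u) ∩ inner Q A) ∪ (nb z A (val u) ∩ outer Q A) := Set.ext fun a => by
      constructor
      · intro ha
        by_cases h : ∃ w : ↥Q, val w = a
        · exact Or.inl ⟨ha, ha.1.1, h⟩
        · exact Or.inr ⟨ha, ha.1.1, h⟩
      · rintro (h | h) <;> exact h.1
    rw [hsum, Set.ncard_union_eq (Set.disjoint_left.2 fun a h h' => h'.2.2 h.2.2) (Set.toFinite _) (Set.toFinite _),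
      hin] at h44
    omega
  · rw [Set.mem_toFinset] at hk
    rw [← c.coset_half d hk.1 hk.2.1 huN (hu.symm ▸ hk.2.2), ← Set.ncard_coe_finset]
    congr 1
    ext e
    simp only [Finset.coe_filter, O, Set.mem_toFinset, Set.mem_setOf_eq]
    exact ⟨fun h => ⟨⟨h.1.1.1, h.2⟩, h.1.1.2⟩, fun h => ⟨⟨⟨h.1.1, h.2⟩, h.1.1.1, fun hv =>
      hk.2.1 (h.1.2 ▸ (c.imK_eq_one h.1.1.1).2 hv)⟩, h.1.2⟩⟩

end Ctx

end CfsgLib.JankoFour.Thompson
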