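import Cfsg.Agent.Lib.JankoFour.Thompson.Local



/-!
# The conjugates of the central involution in the elementary group
-/

set_option autoImplicit false
set_option linter.unusedSectionVars false
set_option linter.style.haveILetI false
set_option maxHeartbeats 1600000

namespace CfsgLib.JankoFour.Thompson

open Subgroup QuadraticMap
open CfsgLib.LargeFischer (fixSub perpSub vadd_self eq_of_vadd card_linear_group card_eq_two_pow)
open CfsgLib.LargeFischer.Thompson (val elem_comap elem_map' three_dvd)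

/-- The candidates for the number of conjugates of the central involution. -/
theorem count_table : ∀ k ∈ List.range 9, (1 + 2 * 45 + 240 * k) * 138240 ∣
    (∏ i ∈ Finset.range 11, (2 ^ 11 - 2 ^ i)) → k = 7 := by
  decide +kernel

variable {G : Type*} [Group G] [Finite G] {z : G}
  {Q : Subgroup (centralizer ({z} : Set G))} [Q.Normal] {V : Type*} [AddCommGroup V] [Module (ZMod 2) V]
  [DistribMulAction ((centralizer ({z} : Set G)) ⧸ Q) V] [Finite V] {q : QuadraticForm (ZMod 2) V} {π : ↥Q → V}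
  {n : (centralizer ({z} : Set G)) ⧸ Q} {M : Subgroup ((centralizer ({z} : Set G)) ⧸ Q)} {φ : ↥M →* ↥Cfsg.Spor.M22}
  {s : V}
  {A : Subgroup G} {Ab : Subgroup ((centralizer ({z} : Set G)) ⧸ Q)}

/-- The part of the elementary group in `Q`. -/
def inner (Q : Subgroup (centralizer ({z} : Set G))) (A : Subgroup G) : Set G :=
  {a | a ∈ A ∧ ∃ u : ↥Q, val u = a}

/-- The part outside `Q`. -/
def outer (Q : Subgroup (centralizer ({z} : Set G))) (A : Subgroup G) : Set G :=
  {a | a ∈ A ∧ ¬ ∃ u : ↥Q, val u = a}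

/-- The conjugates of the central involution in the elementary group. -/
def Zs (z : G) (A : Subgroup G) : Set G := {a | a ∈ A ∧ IsConj z a}

/-- The central vectors of the fixed space. -/
def cset (Ab : Subgroup ((centralizer ({z} : Set G)) ⧸ Q)) (s : V) : Set V :=
  {v : V | v ∈ (fixSub Ab : AddSubgroup V) ∧ v ≠ 0 ∧ v ∈ MulAction.orbit ((centralizer ({z} : Set G)) ⧸ Q) s}

namespace Ctx

variable (c : Ctx Q q π n M φ s A Ab)
include c

theorem inner_iff {a : G} (ha : a ∈ A) :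
    (∃ u : ↥Q, val u = a) ↔ QuotientGroup.mk' Q ⟨a, c.le ha⟩ = 1 := by
  refine ⟨fun ⟨u, hu⟩ => (QuotientGroup.eq_one_iff _).2 ?_, fun h => ⟨⟨_, (QuotientGroup.eq_one_iff _).1 h⟩, rfl⟩⟩
  rw [show (⟨a, c.le ha⟩ : centralizer ({z} : Set G)) = (u : centralizer ({z} : Set G)) from Subtype.ext hu.symm]
  exact u.2

theorem im_inj {a : G} (ha : a ∈ A) {u u' : ↥Q} (e : a * val u = a * val u') : u = u' :=
  Subtype.ext (Subtype.ext (mul_left_cancel e))

/-- Orbits of `Q` outside `Q` have at least sixteen elements. -/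
theorem q_orbit_dvd {a : G} (ha : a ∈ A) (h1 : QuotientGroup.mk' Q ⟨a, c.le ha⟩ ≠ 1) :
    16 ∣ ({b : G | ∃ u : ↥Q, val u * a * (val u)⁻¹ = b}).ncard := by
  classical
  letI : MulAction ↥Q G :=
    { smul := fun u b => val u * b * (val u)⁻¹
      one_smul := fun b => show val (1 : ↥Q) * b * (val (1 : ↥Q))⁻¹ = b by simp [val]
      mul_smul := fun u w b => show val (u * w) * b * (val (u * w))⁻¹ = val u * (val w * b * (val w)⁻¹) * (val u)⁻¹ by
        simp [val, mul_assoc] }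
  set k := QuotientGroup.mk' Q ⟨a, c.le ha⟩
  have horb : ({b : G | ∃ u : ↥Q, val u * a * (val u)⁻¹ = b}) = MulAction.orbit ↥Q a := rfl
  have hbig : 16 ≤ (MulAction.orbit ↥Q a).ncard := by
    have hr : 16 ≤ Nat.card ↥(rg k : AddSubgroup V) := by
      exact (c.oth.rg_card (c.mk_mem (w := ⟨a, c.le ha⟩) ha) h1).ge
    refine hr.trans ?_
    rw [← Nat.card_coe_set_eq]
    choose f hf using fun v : ↥(rg k : AddSubgroup V) => (v.2 : ∃ w : V, k • w + w = (v : V))
    choose g hg using c.mdl.surj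
    refine Nat.card_le_card_of_injective (fun v => (⟨val (g (f v)) * a * (val (g (f v)))⁻¹, ⟨g (f v), rfl⟩⟩ :
      ↥(MulAction.orbit ↥Q a))) fun v v' e => ?_
    obtain ⟨u, -, hu, hpu⟩ := c.comm_q ha (g (f v))
    obtain ⟨u', -, hu', hpu'⟩ := c.comm_q ha (g (f v'))
    have e' : a * val u = a * val u' := hu.symm.trans ((congrArg Subtype.val e).trans hu')
    rw [hg] at hpu hpu'
    exact Subtype.ext ((hf v).symm.trans (hpu.symm.trans
      ((congrArg π (c.im_inj ha e')).trans (hpu'.trans (hf v')))))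
  have hdvd : (MulAction.orbit ↥Q a).ncard ∣ 2 ^ (2 * 6 + 1) := by
    rw [← MulAction.index_stabilizer, ← c.mdl.cardQ]
    exact index_dvd_card _
  obtain ⟨j, -, hj⟩ := (Nat.dvd_prime_pow Nat.prime_two).1 hdvd
  rw [hj] at hbig
  rw [horb, hj]
  have : 4 ≤ j := by
    by_contra h
    have : 2 ^ j ≤ 2 ^ 3 := Nat.pow_le_pow_right (by norm_num) (by omega)
    omega
  exact pow_dvd_pow 2 this

/-- Invariant sets outside `Q`. -/
theorem outer_dvd {S : Set G} (hS : S ⊆ outer Q A)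
    (hinv : ∀ m ∈ Subgroup.normalizer (A : Set G) ⊓ centralizer ({z} : Set G), ∀ a ∈ S, m * a * m⁻¹ ∈ S) :
    240 ∣ S.ncard := by
  classical
  letI := Fintype.ofFinite G
  set K := (centralizer ({z} : Set G)) ⧸ Q
  let im : ↥S → K := fun a => QuotientGroup.mk' Q ⟨(a : G), c.le (hS a.2).1⟩
  have him : ∀ a : ↥S, im a ∈ Ab ∧ im a ≠ 1 := fun a =>
    ⟨c.mk_mem (w := ⟨(a : G), c.le (hS a.2).1⟩) (hS a.2).1, fun e => (hS a.2).2 ((c.inner_iff (hS a.2).1).2 e)⟩
  have hconst : ∀ k ∈ Ab, k ≠ 1 → ∀ k' ∈ Ab, k' ≠ 1 → Nat.card {a : ↥S // im a = k} ≤ Nat.card {a : ↥S // im a = k'} := by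
    intro k hk hk1 k' hk' hk'1
    obtain ⟨y, hyN, -, hy⟩ := c.oth.transitive hk hk1 hk' hk'1
    obtain ⟨w, rfl⟩ := QuotientGroup.mk'_surjective Q y
    have hwN : (w : G) ∈ Subgroup.normalizer (A : Set G) ⊓ centralizer ({z} : Set G) := ⟨c.mem_N_iff.2 hyN, w.2⟩
    refine Nat.card_le_card_of_injective (fun a => ⟨⟨(w : G) * (a.1 : G) * (w : G)⁻¹, hinv _ hwN _ a.1.2⟩, ?_⟩) ?_
    · show QuotientGroup.mk' Q ⟨(w : G) * (a.1 : G) * (w : G)⁻¹, _⟩ = k'
      refine (?_ : _ = QuotientGroup.mk' Q w * im a.1 * (QuotientGroup.mk' Q w)⁻¹).trans (by rw [a.2, hy])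
      show _ = QuotientGroup.mk' Q w * QuotientGroup.mk' Q _ * (QuotientGroup.mk' Q w)⁻¹
      rw [← map_inv, ← map_mul, ← map_mul]
      rfl
    · intro a b e
      have e' : (w : G) * (a.1 : G) * (w : G)⁻¹ = (w : G) * (b.1 : G) * (w : G)⁻¹ :=
        congrArg (fun t : {a : ↥S // im a = k'} => (t.1 : G)) e
      exact Subtype.ext (Subtype.ext (mul_left_cancel (mul_right_cancel e')))
  have h16 : ∀ k : K, k ≠ 1 → 16 ∣ Nat.card {a : ↥S // im a = k} := by
    intro k hk
    letI : MulAction ↥Q {a : ↥S // im a = k} :=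
      { smul := fun u a => ⟨⟨val u * (a.1 : G) * (val u)⁻¹, hinv _ (mem_inf.2 ⟨c.q_mem_N u, (u : centralizer ({z} : Set G)).2⟩) _ a.1.2⟩, by
          show QuotientGroup.mk' Q ⟨val u * (a.1 : G) * (val u)⁻¹, _⟩ = k
          refine Eq.trans ?_ a.2
          show QuotientGroup.mk' Q ((u : centralizer ({z} : Set G)) * ⟨(a.1 : G), c.le (hS a.1.2).1⟩ *
            (u : centralizer ({z} : Set G))⁻¹) = _
          rw [map_mul, map_mul, map_inv, show QuotientGroup.mk' Q (u : centralizer ({z} : Set G)) = 1 from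
            (QuotientGroup.eq_one_iff _).2 u.2, one_mul, inv_one, mul_one]⟩
        one_smul := fun a => Subtype.ext (Subtype.ext (show val (1 : ↥Q) * (a.1 : G) * (val (1 : ↥Q))⁻¹ = _ by simp [val]))
        mul_smul := fun u w a => Subtype.ext (Subtype.ext (show val (u * w) * (a.1 : G) * (val (u * w))⁻¹ =
          val u * (val w * (a.1 : G) * (val w)⁻¹) * (val u)⁻¹ by simp [val, mul_assoc])) }
    letI := Fintype.ofFinite (MulAction.orbitRel.Quotient ↥Q {a : ↥S // im a = k})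
    rw [Nat.card_congr (MulAction.selfEquivSigmaOrbits ↥Q {a : ↥S // im a = k}), Nat.card_sigma]
    refine Finset.dvd_sum fun ω _ => ?_
    set a := Quotient.out ω
    have ha := (hS a.1.2).1
    refine (c.q_orbit_dvd ha (by rw [show QuotientGroup.mk' Q ⟨(a.1 : G), c.le ha⟩ = k from a.2]; exact hk)).trans
      (dvd_of_eq ?_)
    have hset : {b : G | ∃ u : ↥Q, val u * (a.1 : G) * (val u)⁻¹ = b} =
        (fun b : {a : ↥S // im a = k} => (b.1 : G)) '' MulAction.orbit ↥Q a := by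
      ext b
      constructor
      · rintro ⟨u, rfl⟩; exact ⟨_, ⟨u, rfl⟩, rfl⟩
      · rintro ⟨_, ⟨u, rfl⟩, rfl⟩; exact ⟨u, rfl⟩
    rw [hset, Set.ncard_image_of_injective _ (fun b b' e => Subtype.ext (Subtype.ext e)), ← Nat.card_coe_set_eq]
  obtain ⟨k0, hk0, hk01⟩ : ∃ k ∈ Ab, k ≠ 1 := by
    by_contra hc
    push Not at hc
    have h := c.oth.card
    rw [(Subgroup.eq_bot_iff_forall Ab).2 hc, Subgroup.card_bot] at h
    omega
  obtain ⟨t, ht⟩ := h16 k0 hk01
  letI := Fintype.ofFinite {k : K // k ∈ Ab ∧ k ≠ 1}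
  let f : ↥S → {k : K // k ∈ Ab ∧ k ≠ 1} := fun a => ⟨im a, him a⟩
  have hfib : ∀ k : {k : K // k ∈ Ab ∧ k ≠ 1}, Nat.card {a : ↥S // f a = k} = 16 * t := fun k => by
    rw [← ht, Nat.card_congr (Equiv.subtypeEquivRight (fun a : ↥S => (Subtype.ext_iff : f a = k ↔ im a = (k : K))))]
    exact le_antisymm (hconst _ k.2.1 k.2.2 _ hk0 hk01) (hconst _ hk0 hk01 _ k.2.1 k.2.2)
  have h15 : Nat.card {k : K // k ∈ Ab ∧ k ≠ 1} = 15 := by
    have e : Nat.card ↥((Ab : Set K) \ {1}) = 15 := by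
      rw [Nat.card_coe_set_eq, Set.ncard_sdiff (by simp), Set.ncard_singleton, ← Nat.card_coe_set_eq,
        SetLike.coe_sort_coe, c.oth.card]
    exact e
  rw [← Nat.card_coe_set_eq, ← Nat.card_congr (Equiv.sigmaFiberEquiv f), Nat.card_sigma,
    Finset.sum_const_nat (m := 16 * t) (fun k _ => hfib k), Finset.card_univ, ← Nat.card_eq_fintype_card, h15]
  exact ⟨t, by ring⟩

theorem pre_ncard (S : Set V) : ({a : G | ∃ u : ↥Q, π u ∈ S ∧ val u = a}).ncard = 2 * S.ncard := by
  classical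
  choose g hg using c.mdl.surj
  obtain ⟨z₀, hz₀, hz0⟩ := c.z_val
  let f : Bool × ↥S → {a : G | ∃ u : ↥Q, π u ∈ S ∧ val u = a} := fun p =>
    ⟨val (g p.2 * cond p.1 z₀ 1), g p.2 * cond p.1 z₀ 1, by
      rw [c.mdl.pi_mul, hg]
      cases p.1
      · simp only [cond_false, c.mdl.pi_one, add_zero]; exact p.2.2
      · simp only [cond_true, hz0, add_zero]; exact p.2.2, rfl⟩
  have hf : Function.Bijective f := by
    constructor
    · rintro ⟨b, v⟩ ⟨b', v'⟩ e
      have e' : g v * cond b z₀ 1 = g v' * cond b' z₀ 1 :=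
        Subtype.ext (Subtype.ext (congrArg (fun t : {a : G | ∃ u : ↥Q, π u ∈ S ∧ val u = a} => (t : G)) e))
      have hv : v = v' := by
        have h := congrArg π e'
        simp only [c.mdl.pi_mul, hg] at h
        refine Subtype.ext ?_
        cases b <;> cases b' <;> simpa [hz0, c.mdl.pi_one] using h
      subst hv
      have hb := mul_left_cancel e'
      have hne : z₀ ≠ (1 : ↥Q) := fun h => c.z_ne (by rw [← hz₀, h]; rfl)
      cases b <;> cases b'
      · rfl
      · exact absurd hb.symm hne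
      · exact absurd hb hne
      · rfl
    · rintro ⟨a, u, hu, rfl⟩
      rcases c.mdl.pi_eq (x := g (π u)) (y := u) (hg _) with e | e
      · exact ⟨(false, ⟨π u, hu⟩), Subtype.ext (by simpa [f, val] using e.symm)⟩
      · exact ⟨(true, ⟨π u, hu⟩), Subtype.ext (by simpa [f, val, ← hz₀] using e.symm)⟩
  rw [← Nat.card_coe_set_eq, ← Nat.card_eq_of_bijective f hf, Nat.card_prod, Nat.card_coe_set_eq]
  simp

/-- A central vector comes from a conjugate. -/
theorem isConj_iff_orbit {u : ↥Q} (hu : π u ≠ 0) :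
    IsConj z (val u) ↔ π u ∈ MulAction.orbit ((centralizer ({z} : Set G)) ⧸ Q) s :=
  c.mdl.isConj_iff_orbit c.oth.cls hu

/-- The conjugates inside `Q`. -/
theorem Zs_inner_ncard : (Zs z A ∩ inner Q A).ncard = 1 + 2 * (cset Ab s).ncard := by
  classical
  set W := {a : G | ∃ u : ↥Q, π u ∈ cset Ab s ∧ val u = a}
  have e : Zs z A ∩ inner Q A = insert z W := by
    ext a
    constructor
    · rintro ⟨⟨haA, hc⟩, -, u, rfl⟩
      by_cases h0 : π u = 0
      · rcases (c.mdl.ker u).1 h0 with e | e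
        · exfalso
          obtain ⟨g, hg⟩ := isConj_iff.1 hc
          rw [show val u = 1 from e] at hg
          exact c.z_ne (conj_eq_one_iff.1 hg)
        · exact Or.inl e
      · exact Or.inr ⟨u, ⟨(c.mem_Q u).1 haA, h0, (c.isConj_iff_orbit h0).1 hc⟩, rfl⟩
    · rintro (e | ⟨u, ⟨huF, h0, horb⟩, rfl⟩)
      · obtain ⟨z₀, hz₀, -⟩ := c.z_val
        rw [e]
        exact ⟨⟨c.z_mem, IsConj.refl z⟩, c.z_mem, z₀, hz₀⟩
      · exact ⟨⟨(c.mem_Q u).2 huF, (c.isConj_iff_orbit h0).2 horb⟩, (c.mem_Q u).2 huF, u, rfl⟩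
  rw [e, Set.ncard_insert_of_notMem, c.pre_ncard, add_comm]
  rintro ⟨u, hu, he⟩
  exact hu.2.1 ((c.mdl.ker u).2 (.inr he))

theorem orbit_stab : (Zs z A).ncard * (2 ^ 13 * 34560) = Nat.card ↥(Subgroup.normalizer (A : Set G)) := by
  set N := Subgroup.normalizer (A : Set G) with hN
  letI : MulAction ↥N G :=
    { smul := fun m b => (m : G) * b * (m : G)⁻¹
      one_smul := fun b => show ((1 : ↥N) : G) * b * ((1 : ↥N) : G)⁻¹ = b by simp
      mul_smul := fun m w b => show ((m * w : ↥N) : G) * b * ((m * w : ↥N) : G)⁻¹ =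
        (m : G) * ((w : G) * b * (w : G)⁻¹) * (m : G)⁻¹ by simp [mul_assoc] }
  have horb : MulAction.orbit ↥N z = Zs z A := by
    ext a
    constructor
    · rintro ⟨m, rfl⟩
      exact ⟨c.conj_mem m.2 c.z_mem, isConj_iff.2 ⟨(m : G), rfl⟩⟩
    · rintro ⟨ha, hc⟩
      obtain ⟨g, hg⟩ := isConj_iff.1 hc
      obtain ⟨m, hm, e⟩ := c.fusion c.z_mem (g := g) (hg ▸ ha)
      exact ⟨⟨m, hm⟩, e.trans hg⟩
  have hst : MulAction.stabilizer ↥N z = (N ⊓ centralizer ({z} : Set G)).subgroupOf N := by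
    ext m
    show (m : G) * z * (m : G)⁻¹ = z ↔ (m : G) ∈ N ⊓ centralizer ({z} : Set G)
    rw [mul_inv_eq_iff_eq_mul, mem_inf, mem_centralizer_singleton_iff]
    exact ⟨fun h => ⟨m.2, h⟩, fun h => h.2⟩
  have h := (MulAction.stabilizer ↥N z).card_mul_index
  rw [MulAction.index_stabilizer, horb, hst,
    Nat.card_congr (subgroupOfEquivOfLe (inf_le_left : N ⊓ centralizer ({z} : Set G) ≤ N)).toEquiv, c.NH_card] at h
  rw [mul_comm]
  exact h

theorem inner_ncard : (inner Q A).ncard = 128 := by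
  have e : inner Q A = {a : G | ∃ u : ↥Q, π u ∈ ((fixSub Ab : AddSubgroup V) : Set V) ∧ val u = a} := by
    ext a
    exact ⟨fun ⟨ha, u, hu⟩ => ⟨u, (c.mem_Q u).1 (hu ▸ ha), hu⟩,
      fun ⟨u, hu, e⟩ => ⟨e ▸ (c.mem_Q u).2 hu, u, e⟩⟩
  rw [e, c.pre_ncard, ← Nat.card_coe_set_eq, SetLike.coe_sort_coe, c.oth.facts.2.1]

theorem outer_ncard : (outer Q A).ncard = 1920 := by
  have e : outer Q A = (A : Set G) \ inner Q A := by
    ext a
    exact ⟨fun h => ⟨h.1, fun h' => h.2 h'.2⟩, fun h => ⟨h.1, fun h' => h.2 ⟨h.1, h'⟩⟩⟩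
  rw [e, Set.ncard_sdiff fun a ha => ha.1, c.inner_ncard, ← Nat.card_coe_set_eq, SetLike.coe_sort_coe, c.card]
  norm_num

theorem inf_invariant : ∀ m ∈ Subgroup.normalizer (A : Set G) ⊓ centralizer ({z} : Set G), ∀ a ∈ A,
    ((∃ u : ↥Q, val u = m * a * m⁻¹) ↔ ∃ u : ↥Q, val u = a) := by
  intro m hm a ha
  constructor <;> rintro ⟨u, hu⟩
  · refine ⟨⟨_, (inferInstance : Q.Normal).conj_mem _ u.2 ⟨m⁻¹, inv_mem hm.2⟩⟩, ?_⟩
    show m⁻¹ * val u * m⁻¹⁻¹ = a
    rw [hu]; group
  · refine ⟨⟨_, (inferInstance : Q.Normal).conj_mem _ u.2 ⟨m, hm.2⟩⟩, ?_⟩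
    show m * val u * m⁻¹ = m * a * m⁻¹
    rw [hu]

/-- The linear representation on the elementary group. -/
theorem exists_linear : (Zs z A).ncard * 138240 ∣ (∏ i ∈ Finset.range 11, (2 ^ 11 - 2 ^ i)) := by
  letI iC : CommGroup ↥A := { (inferInstance : Group ↥A) with mul_comm := fun a b => c.elem.1.is_comm.comm a b }
  letI : Module (ZMod 2) (Additive ↥A) := AddCommGroup.zmodModule fun a => by
    rw [two_nsmul]
    exact Additive.toMul.injective (Subtype.ext (c.sq (Additive.toMul a).2))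
  set N := Subgroup.normalizer (A : Set G) with hN
  let act : ↥N → (Additive ↥A →+ Additive ↥A) := fun m => MonoidHom.toAdditive (MonoidHom.mk'
    (fun a => (⟨(m : G) * (a : G) * (m : G)⁻¹, c.conj_mem m.2 a.2⟩ : ↥A)) fun a b => Subtype.ext (by
      show (m : G) * ((a : G) * b) * (m : G)⁻¹ = (m : G) * a * (m : G)⁻¹ * ((m : G) * b * (m : G)⁻¹)
      group))
  let ρ : ↥N →* (Additive ↥A ≃ₗ[ZMod 2] Additive ↥A) :=
    { toFun := fun m =>
        { (act m).toZModLinearMap 2 with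
          invFun := act m⁻¹
          left_inv := fun a => Additive.toMul.injective (Subtype.ext (by
            show (m : G)⁻¹ * ((m : G) * _ * (m : G)⁻¹) * (m : G)⁻¹⁻¹ = _
            group))
          right_inv := fun a => Additive.toMul.injective (Subtype.ext (by
            show (m : G) * ((m : G)⁻¹ * _ * (m : G)⁻¹⁻¹) * (m : G)⁻¹ = _
            group)) }
      map_one' := LinearEquiv.ext fun a => Additive.toMul.injective (Subtype.ext (by
        show ((1 : ↥N) : G) * _ * ((1 : ↥N) : G)⁻¹ = _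
        simp))
      map_mul' := fun m w => LinearEquiv.ext fun a => Additive.toMul.injective (Subtype.ext (by
        show ((m * w : ↥N) : G) * _ * ((m * w : ↥N) : G)⁻¹ = (m : G) * ((w : G) * _ * (w : G)⁻¹) * (m : G)⁻¹
        simp [mul_assoc])) }
  have hker : ρ.ker = A.subgroupOf N := by
    ext m
    constructor
    · intro h
      refine c.cent fun a ha => mul_inv_eq_iff_eq_mul.1 ?_
      exact congrArg (fun e : Additive ↥A ≃ₗ[ZMod 2] Additive ↥A => ((Additive.toMul (e (Additive.ofMul ⟨a, ha⟩)) : ↥A) : G))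
        (MonoidHom.mem_ker.1 h)
    · intro h
      refine MonoidHom.mem_ker.2 (LinearEquiv.ext fun a => Additive.toMul.injective (Subtype.ext ?_))
      show (m : G) * _ * (m : G)⁻¹ = _
      exact mul_inv_eq_iff_eq_mul.2 (c.comm h (Additive.toMul a).2)
  have hAN : A ≤ N := le_normalizer
  have h1 := ρ.ker.card_mul_index
  rw [index_ker, hker, Nat.card_congr (subgroupOfEquivOfLe hAN).toEquiv, c.card, ← c.orbit_stab] at h1
  have hW : Nat.card (Additive ↥A) = 2 ^ 11 := (Nat.card_congr Additive.toMul).trans c.card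
  have hR : Nat.card ↥ρ.range = (Zs z A).ncard * 138240 := by omega
  rw [← hR, ← card_linear_group (V := Additive ↥A) (d := 11) (by
    have := card_eq_two_pow (V := Additive ↥A)
    rw [hW] at this
    exact (Nat.pow_right_injective (le_refl 2) this).symm)]
  exact card_subgroup_dvd_card _

/-- There are 1771 conjugates of the central involution and forty-five central vectors. -/
theorem Zs_facts : (Zs z A).ncard = 1771 ∧ (cset Ab s).ncard = 45 := by
  classical
  have h45 : (cset Ab s).ncard = 45 := c.oth.hex.cset_card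
  have hd := c.exists_linear
  set NH := Subgroup.normalizer (A : Set G) ⊓ centralizer ({z} : Set G)
  have hinv : ∀ m ∈ NH, ∀ a ∈ Zs z A ∩ outer Q A, m * a * m⁻¹ ∈ Zs z A ∩ outer Q A := fun m hm a ha =>
    ⟨⟨c.conj_mem hm.1 ha.1.1, ha.1.2.trans (isConj_iff.2 ⟨m, rfl⟩)⟩, c.conj_mem hm.1 ha.1.1,
      fun h => ha.2.2 ((c.inf_invariant m hm a ha.1.1).1 h)⟩
  obtain ⟨k, hk⟩ := c.outer_dvd Set.inter_subset_right hinv
  have hle := Set.ncard_le_ncard (Set.inter_subset_right : Zs z A ∩ outer Q A ⊆ _) (Set.toFinite _)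
  rw [hk, c.outer_ncard] at hle
  have hsum : (Zs z A).ncard = 1 + 2 * (cset Ab s).ncard + 240 * k := by
    rw [← c.Zs_inner_ncard, ← hk, ← Set.ncard_union_eq ?_ (Set.toFinite _) (Set.toFinite _)]
    · congr 1
      ext a
      constructor
      · intro ha
        by_cases h : ∃ u : ↥Q, val u = a
        · exact Or.inl ⟨ha, ha.1, h⟩
        · exact Or.inr ⟨ha, ha.1, h⟩
      · rintro (h | h) <;> exact h.1
    · exact Set.disjoint_left.2 fun a h h' => h'.2.2 h.2.2
  rw [hsum, h45] at hd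
  have h7 := count_table k (List.mem_range.2 (by omega)) hd
  exact ⟨by rw [hsum, h45, h7], h45⟩

end Ctx

end CfsgLib.JankoFour.Thompson
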