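import Cfsg.Agent.Lib.JankoFour.Big

/-!
# The hexad group in the quotient: lines and commutator spaces
-/

set_option autoImplicit false
set_option linter.unusedSectionVars false

namespace CfsgLib.JankoFour.Thompson

open QuadraticMap
open CfsgLib.LargeFischer (fixSub perpSub vadd_self eq_of_vadd)

variable {V : Type*} [AddCommGroup V] [Module (ZMod 2) V] [Finite V]
  {K : Type*} [Group K] [Finite K] [DistribMulAction K V]

/-- A hexad group with its setting. -/
structure Other (q : QuadraticForm (ZMod 2) V) (n : K) (M : Subgroup K) (φ : ↥M →* ↥Cfsg.Spor.M22) (s : V)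
    (A : Subgroup K) : Prop where
  core : Core q n M φ
  cls : Class q K s
  hex : Hex q n M s A

namespace Other

variable {q : QuadraticForm (ZMod 2) V} {n : K} {M : Subgroup K} {φ : ↥M →* ↥Cfsg.Spor.M22} {s : V}
  {A : Subgroup K} (o : Other q n M φ s A)

include o

theorem le : A ≤ M := o.hex.le

theorem elem : Cfsg.IsElementaryAbelian 2 A := o.hex.elem

theorem card : Nat.card ↥A = 16 := o.hex.card

theorem facts : (∀ v ∈ (fixSub A : AddSubgroup V), q v = 0) ∧ Nat.card ↥(fixSub A : AddSubgroup V) = 64 ∧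
    (∀ v ∈ (fixSub A : AddSubgroup V), n • v ∈ (fixSub A : AddSubgroup V)) ∧
    perpSub q (fixSub A : AddSubgroup V) = fixSub A :=
  ⟨o.hex.sing, o.hex.fix64, o.hex.fix_n, o.hex.perp o.core⟩

theorem quad (a : K) (ha : a ∈ A) (v : V) : a • v + v ∈ (fixSub A : AddSubgroup V) :=
  fun b hb => o.hex.quad a ha b hb v

theorem n_move {v : V} (hv : v ≠ 0) : n • v ≠ v ∧ n • n • v ≠ v ∧ n • n • v ≠ n • v ∧ n • v ≠ 0 ∧ n • n • v ≠ 0 := by
  have h1 : n • v ≠ 0 := o.core.smul_ne_zero _ hv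
  refine ⟨o.core.smul_n_ne hv, fun e => o.core.smul_n_ne hv ?_, o.core.smul_n_ne h1, h1,
    o.core.smul_ne_zero _ h1⟩
  conv_lhs => rw [← e]
  exact o.core.smul_n_three v

theorem n_sum (v : V) : v + n • v = n • n • v := (o.core.n_quad v).symm

theorem ln_ncard {v : V} (hv : v ≠ 0) : (ln n v).ncard = 4 := by
  obtain ⟨a, b, d, e, f⟩ := o.n_move hv
  rw [ln, Set.ncard_insert_of_notMem, Set.ncard_insert_of_notMem, Set.ncard_pair d.symm]
  · simp only [Set.mem_insert_iff, Set.mem_singleton_iff, not_or]; exact ⟨a.symm, b.symm⟩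
  · simp only [Set.mem_insert_iff, Set.mem_singleton_iff, not_or]; exact ⟨hv.symm, e.symm, f.symm⟩

theorem ln_subset {W : AddSubgroup V} (hW : ∀ v ∈ W, n • v ∈ W) {v : V} (hv : v ∈ W) : ln n v ⊆ W := by
  rintro x (rfl | rfl | rfl | rfl)
  exacts [W.zero_mem, hv, hW _ hv, hW _ (hW _ hv)]

theorem ln_add {v x y : V} (hx : x ∈ ln n v) (hy : y ∈ ln n v) : x + y ∈ ln n v := by
  have h1 := o.n_sum v
  have h2 : v + n • n • v = n • v := by rw [← h1, ← add_assoc, vadd_self, zero_add]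
  have h3 : n • v + n • n • v = v := by rw [← h1, add_comm v, ← add_assoc, vadd_self, zero_add]
  simp only [ln, Set.mem_insert_iff, Set.mem_singleton_iff] at hx hy ⊢
  rcases hx with a | a | a | a <;> rcases hy with b | b | b | b <;>
    simp [a, b, vadd_self, h1, h2, h3, add_comm (n • v) v, add_comm (n • n • v) v, add_comm (n • n • v) (n • v)]

theorem ln_smul {v x : V} (hx : x ∈ ln n v) : n • x ∈ ln n v := by
  rcases hx with rfl | rfl | rfl | rfl
  · exact Or.inl (smul_zero _)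
  · exact Or.inr (Or.inr (Or.inl rfl))
  · exact Or.inr (Or.inr (Or.inr rfl))
  · exact Or.inr (Or.inl (o.core.smul_n_three v))

theorem ln_disjoint {v w x : V} (hx : x ∈ ln n w) (hx0 : x ≠ 0) (hxv : x ∈ ln n v) : w ∈ ln n v := by
  rcases hx with e | e | e | e
  · exact absurd e hx0
  · exact e ▸ hxv
  · have := o.ln_smul (o.ln_smul hxv)
    rwa [e, o.core.smul_n_three] at this
  · have := o.ln_smul hxv
    rwa [e, o.core.smul_n_three] at this

/-- The span of two lines has sixteen vectors. -/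
theorem span_two {v w : V} (hv : v ≠ 0) (hw : w ∉ ln n v) :
    ((fun p : V × V => p.1 + p.2) '' (ln n v ×ˢ ln n w)).ncard = 16 := by
  have hw0 : w ≠ 0 := fun e => hw (Or.inl e)
  rw [Set.InjOn.ncard_image, Set.ncard_prod, o.ln_ncard hv, o.ln_ncard hw0]
  rintro ⟨a, b⟩ ⟨ha, hb⟩ ⟨a', b'⟩ ⟨ha', hb'⟩ (e : a + b = a' + b')
  have h : a + a' = b + b' := by
    refine eq_of_vadd ?_
    calc a + a' + (b + b') = (a + b) + (a' + b') := by abel
      _ = 0 := by rw [e, vadd_self]
  by_cases h0 : b + b' = 0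
  · rw [h0] at h
    exact Prod.ext (eq_of_vadd h) (eq_of_vadd h0)
  · exact absurd (o.ln_disjoint (o.ln_add hb hb') h0 (h ▸ o.ln_add ha ha')) hw

theorem rg_le {a : K} (ha : a ∈ A) : (rg a : AddSubgroup V) ≤ fixSub A := by
  rintro _ ⟨v, rfl⟩
  exact o.quad a ha v

theorem rg_n {a : K} (ha : a ∈ A) {w : V} (hw : w ∈ (rg a : AddSubgroup V)) : n • w ∈ (rg a : AddSubgroup V) := by
  obtain ⟨v, rfl⟩ := hw
  refine ⟨n • v, ?_⟩
  show a • n • v + n • v = n • (a • v + v)
  rw [smul_add, ← mul_smul, o.core.commute _ (o.le ha), mul_smul]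

theorem self_inv {a : K} (ha : a ∈ A) : a⁻¹ = a :=
  inv_eq_of_mul_eq_one_left (by rw [← pow_two]; exact o.elem.2 a ha)

theorem symm {a : K} (ha : a ∈ A) (v w : V) : polar q (a • v + v) w = polar q v (a • w + w) := by
  rw [QuadraticMap.polar_add_left, QuadraticMap.polar_add_right]
  congr 1
  rw [← o.core.polar_smul a, ← mul_smul, show a * a = 1 by rw [← pow_two]; exact o.elem.2 a ha, one_smul]

theorem smul_ln {y : K} (hy : y ∈ M) {v x : V} (hx : x ∈ ln n v) : y • x ∈ ln n (y • v) := by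
  have hc : ∀ u : V, y • n • u = n • y • u := fun u => by rw [← mul_smul, o.core.commute _ hy, mul_smul]
  rcases hx with rfl | rfl | rfl | rfl
  · exact Or.inl (smul_zero _)
  · exact Or.inr (Or.inl rfl)
  · exact Or.inr (Or.inr (Or.inl (hc v)))
  · exact Or.inr (Or.inr (Or.inr (show y • n • n • v = n • n • y • v by rw [hc, hc])))

theorem rg_card {a : K} (ha : a ∈ A) (ha1 : a ≠ 1) : Nat.card ↥(rg a : AddSubgroup V) = 16 :=
  o.hex.rg_card a ha ha1

theorem transitive {a b : K} (ha : a ∈ A) (ha1 : a ≠ 1) (hb : b ∈ A) (hb1 : b ≠ 1) :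
    ∃ y : K, y ∈ Subgroup.normalizer (A : Set K) ∧ y ∈ M ∧ y * a * y⁻¹ = b :=
  o.hex.transitive a ha ha1 b hb hb1

theorem eq_of_cent {k : K} (hkA : ∀ a ∈ A, k * a = a * k) (hkF : ∀ v ∈ (fixSub A : AddSubgroup V), k • v = v) :
    k ∈ A := o.hex.eq_of_cent k hkA hkF

theorem norm_card : Nat.card ↥(Subgroup.normalizer (A : Set K)) = 34560 := o.hex.norm_card

end Other

end CfsgLib.JankoFour.Thompson
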