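import Cfsg.Agent.Lib.JankoFour.Thompson.Base
import Cfsg.Agent.Lib.LargeFischer.Thompson.Local

/-!
# The normaliser and centraliser of the elementary group, fusion
-/

set_option autoImplicit false
set_option linter.unusedSectionVars false
set_option linter.style.haveILetI false
set_option maxHeartbeats 1000000

namespace CfsgLib.JankoFour.Thompson

open Subgroup QuadraticMap
open CfsgLib.LargeFischer (fixSub perpSub vadd_self eq_of_vadd)
open CfsgLib.LargeFischer.Thompson (val elem_comap elem_map' three_dvd)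

variable {G : Type*} [Group G] [Finite G] {z : G}
  {Q : Subgroup (centralizer ({z} : Set G))} [Q.Normal] {V : Type*} [AddCommGroup V] [Module (ZMod 2) V]
  [DistribMulAction ((centralizer ({z} : Set G)) ⧸ Q) V] [Finite V] {q : QuadraticForm (ZMod 2) V} {π : ↥Q → V}
  {n : (centralizer ({z} : Set G)) ⧸ Q} {M : Subgroup ((centralizer ({z} : Set G)) ⧸ Q)} {φ : ↥M →* ↥Cfsg.Spor.M22}
  {s : V}
  {A : Subgroup G} {Ab : Subgroup ((centralizer ({z} : Set G)) ⧸ Q)}

namespace Ctx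

variable (c : Ctx Q q π n M φ s A Ab)
include c

theorem z_ne : z ≠ 1 := fun h => by
  have := c.mdl.ordz
  rw [h, orderOf_one] at this
  omega

theorem zz : z * z = 1 := by rw [← pow_two, ← c.mdl.ordz, pow_orderOf_eq_one]

theorem comm_z (w : centralizer ({z} : Set G)) : (w : G) * z = z * (w : G) := mem_centralizer_singleton_iff.1 w.2

theorem z_val : ∃ z₀ : ↥Q, val z₀ = z ∧ π z₀ = 0 := by
  obtain ⟨zQ, h, h0, -⟩ := c.mdl.exists_zQ
  exact ⟨zQ, h, h0⟩

theorem z_mem : z ∈ A := by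
  obtain ⟨z₀, h, h0⟩ := c.z_val
  rw [← h, c.mem_Q, h0]
  exact zero_mem _

theorem comm {a b : G} (ha : a ∈ A) (hb : b ∈ A) : a * b = b * a :=
  congrArg Subtype.val (c.elem.1.is_comm.comm (⟨a, ha⟩ : ↥A) ⟨b, hb⟩)

theorem sq {a : G} (ha : a ∈ A) : a * a = 1 := by rw [← pow_two]; exact c.elem.2 a ha

theorem inv {a : G} (ha : a ∈ A) : a⁻¹ = a := inv_eq_of_mul_eq_one_left (c.sq ha)

theorem mk_mem {w : centralizer ({z} : Set G)} (hw : (w : G) ∈ A) : QuotientGroup.mk' Q w ∈ Ab :=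
  c.img.symm ▸ ⟨w, hw, rfl⟩

theorem lift {k : (centralizer ({z} : Set G)) ⧸ Q} (hk : k ∈ Ab) :
    ∃ w : centralizer ({z} : Set G), (w : G) ∈ A ∧ QuotientGroup.mk' Q w = k := by
  obtain ⟨w, hw, e⟩ := c.img ▸ hk
  exact ⟨w, hw, e⟩

theorem pi_conj (w : centralizer ({z} : Set G)) (a : ↥Q) :
    ∃ a' : ↥Q, val a' = (w : G) * val a * (w : G)⁻¹ ∧ π a' = (QuotientGroup.mk' Q w) • π a :=
  ⟨MulAut.conjNormal w a, by simp [val, MulAut.conjNormal_apply], (c.mdl.equiv w a).symm⟩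

theorem mem_normalizer {k : G} (h : ∀ a ∈ A, k * a * k⁻¹ ∈ A) : k ∈ Subgroup.normalizer (A : Set G) := by
  rw [mem_normalizer_iff_map_conj_eq]
  refine eq_of_le_of_card_ge ?_ (le_of_eq (card_map_of_injective (MulEquiv.injective _)).symm)
  rintro _ ⟨a, ha, rfl⟩
  exact h a ha

theorem conj_mem {k a : G} (hk : k ∈ Subgroup.normalizer (A : Set G)) (ha : a ∈ A) : k * a * k⁻¹ ∈ A :=
  (mem_normalizer_iff.1 hk a).1 ha

theorem elem_sub : Cfsg.IsElementaryAbelian 2 (A.subgroupOf (centralizer ({z} : Set G))) :=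
  elem_comap (subtype_injective _) c.elem

theorem card_sub : Nat.card ↥(A.subgroupOf (centralizer ({z} : Set G))) = 2 ^ 11 := by
  rw [Nat.card_congr (subgroupOfEquivOfLe c.le).toEquiv, c.card]

theorem mem_N_iff {w : centralizer ({z} : Set G)} :
    (w : G) ∈ Subgroup.normalizer (A : Set G) ↔ QuotientGroup.mk' Q w ∈ Subgroup.normalizer (Ab : Set ((centralizer ({z} : Set G)) ⧸ Q)) := by
  constructor
  · intro h
    rw [mem_normalizer_iff_map_conj_eq]
    refine eq_of_le_of_card_ge ?_ (le_of_eq (card_map_of_injective (MulEquiv.injective _)).symm)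
    rintro _ ⟨k, hk, rfl⟩
    obtain ⟨b, hb, rfl⟩ := c.lift hk
    show QuotientGroup.mk' Q w * QuotientGroup.mk' Q b * (QuotientGroup.mk' Q w)⁻¹ ∈ Ab
    rw [← map_inv, ← map_mul, ← map_mul]
    exact c.mk_mem (c.conj_mem h hb)
  · intro h
    set B := A.subgroupOf (centralizer ({z} : Set G))
    set B' := B.map (MulAut.conj w).toMonoidHom with hB'
    have e : B.map (QuotientGroup.mk' Q) = B'.map (QuotientGroup.mk' Q) := by
      refine (eq_of_le_of_card_ge ?_ ?_).symm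
      · rintro _ ⟨_, ⟨b, hb, rfl⟩, rfl⟩
        show QuotientGroup.mk' Q (w * b * w⁻¹) ∈ B.map (QuotientGroup.mk' Q)
        rw [map_mul, map_mul, map_inv, ← c.img]
        exact (mem_normalizer_iff.1 h _).1 (c.mk_mem hb)
      · rw [hB', Subgroup.map_map, show (QuotientGroup.mk' Q).comp (MulAut.conj w).toMonoidHom =
          (MulAut.conj (QuotientGroup.mk' Q w)).toMonoidHom.comp (QuotientGroup.mk' Q) from
          MonoidHom.ext fun y => by simp, ← Subgroup.map_map,
          card_map_of_injective (f := (MulAut.conj (QuotientGroup.mk' Q w)).toMonoidHom) (MulEquiv.injective _)]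
    have hle := c.mdl.big_eq c.oth.cls c.elem_sub c.card_sub.ge (B' := B')
      (elem_map' _ c.elem_sub) (by rw [hB', card_map_of_injective (MulEquiv.injective _), c.card_sub]) e
    refine c.mem_normalizer fun a ha => ?_
    exact hle ⟨⟨a, c.le ha⟩, ha, rfl⟩

theorem q_mem_N (a : ↥Q) : val a ∈ Subgroup.normalizer (A : Set G) := c.mem_N_iff.2 (by
  rw [show QuotientGroup.mk' Q (a : centralizer ({z} : Set G)) = 1 from (QuotientGroup.eq_one_iff _).2 a.2]
  exact one_mem _)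

theorem NH_card : Nat.card ↥(Subgroup.normalizer (A : Set G) ⊓ centralizer ({z} : Set G)) = 2 ^ 13 * 34560 := by
  set T := (Subgroup.normalizer (Ab : Set ((centralizer ({z} : Set G)) ⧸ Q))).comap (QuotientGroup.mk' Q) with hT
  have hmap : T.map (centralizer ({z} : Set G)).subtype =
      Subgroup.normalizer (A : Set G) ⊓ centralizer ({z} : Set G) := by
    ext k
    constructor
    · rintro ⟨w, hw, rfl⟩
      exact ⟨c.mem_N_iff.2 hw, w.2⟩
    · rintro ⟨hk, hkz⟩
      exact ⟨⟨k, hkz⟩, (c.mem_N_iff (w := ⟨k, hkz⟩)).1 hk, rfl⟩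
  rw [← hmap, card_map_of_injective (subtype_injective _)]
  have h1 := T.card_mul_index
  rw [hT, index_comap_of_surjective _ (QuotientGroup.mk'_surjective Q), ← hT] at h1
  have h2 := (Subgroup.normalizer (Ab : Set ((centralizer ({z} : Set G)) ⧸ Q))).card_mul_index
  rw [c.oth.norm_card] at h2
  have h3 : Nat.card (centralizer ({z} : Set G)) = Nat.card ((centralizer ({z} : Set G)) ⧸ Q) * Nat.card ↥Q :=
    card_eq_card_quotient_mul_card_subgroup Q
  rw [← h2, c.mdl.cardQ] at h3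
  rw [h3] at h1
  have hpos : 0 < (Subgroup.normalizer (Ab : Set ((centralizer ({z} : Set G)) ⧸ Q))).index := Nat.pos_of_ne_zero index_ne_zero_of_finite
  refine Nat.eq_of_mul_eq_mul_right hpos (h1.trans ?_)
  ring

theorem cent {k : G} (hk : ∀ a ∈ A, k * a = a * k) : k ∈ A := by
  set w : centralizer ({z} : Set G) := ⟨k, mem_centralizer_singleton_iff.2 (hk z c.z_mem)⟩
  have hAb : QuotientGroup.mk' Q w ∈ Ab := by
    refine c.oth.eq_of_cent (fun a ha => ?_) fun v hv => ?_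
    · obtain ⟨b, hb, rfl⟩ := c.lift ha
      rw [← map_mul, ← map_mul, show w * b = b * w from Subtype.ext (hk _ hb)]
    · obtain ⟨a, rfl⟩ := c.mdl.surj v
      exact c.mdl.fixed_of_comm (c := w) (u := a) (Subtype.ext (hk _ ((c.mem_Q a).2 hv)))
  obtain ⟨b, hb, hbw⟩ := c.lift hAb
  set u : ↥Q := ⟨b⁻¹ * w, QuotientGroup.eq.1 hbw⟩
  have hu : π u ∈ (fixSub Ab : AddSubgroup V) := by
    rw [← c.oth.facts.2.2.2]
    intro v hv
    obtain ⟨a, rfl⟩ := c.mdl.surj v
    refine (c.mdl.comm_iff u a).2 (Subtype.ext ?_)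
    have ha := (c.mem_Q a).2 hv
    show (b : G)⁻¹ * k * val a = val a * ((b : G)⁻¹ * k)
    rw [mul_assoc, hk _ ha, ← mul_assoc, c.comm (inv_mem hb) ha, mul_assoc]
  have := mul_mem hb ((c.mem_Q u).2 hu)
  simpa [u, val, w] using this

/-- The normaliser controls fusion. -/
theorem fusion {a g : G} (ha : a ∈ A) (hg : g * a * g⁻¹ ∈ A) :
    ∃ m ∈ Subgroup.normalizer (A : Set G), m * a * m⁻¹ = g * a * g⁻¹ := by
  haveI := Fact.mk Nat.prime_two
  set b := g * a * g⁻¹
  set C := centralizer ({b} : Set G)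
  have hA2 : IsPGroup 2 ↥A := IsPGroup.of_card c.card
  have hAC : A ≤ C := fun x hx => mem_centralizer_singleton_iff.2 (c.comm hx hg)
  set A' := A.map (MulAut.conj g).toMonoidHom with hA'
  have hA'C : A' ≤ C := by
    rintro _ ⟨x, hx, rfl⟩
    refine mem_centralizer_singleton_iff.2 ?_
    show g * x * g⁻¹ * (g * a * g⁻¹) = g * a * g⁻¹ * (g * x * g⁻¹)
    calc g * x * g⁻¹ * (g * a * g⁻¹) = g * (x * a) * g⁻¹ := by group
      _ = _ := by rw [c.comm hx ha]; group
  obtain ⟨P, hP⟩ := (hA2.comap_subtype (K := C)).exists_le_sylow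
  obtain ⟨P', hP'⟩ := ((hA2.map (MulAut.conj g).toMonoidHom).comap_subtype (K := C)).exists_le_sylow
  obtain ⟨h, hh⟩ := MulAction.exists_smul_eq ↥C P' P
  have hle : A'.map (MulAut.conj (h : G)).toMonoidHom ≤ (P : Subgroup ↥C).map C.subtype := by
    rintro _ ⟨x, hx, rfl⟩
    refine ⟨MulAut.conj h ⟨x, hA'C hx⟩, ?_, rfl⟩
    rw [← hh]
    exact Subgroup.smul_mem_pointwise_smul (⟨x, hA'C hx⟩ : ↥C) (MulAut.conj h) (P' : Subgroup ↥C) (hP' hx)
  have e := c.uniq _ _ (elem_map' _ (elem_map' _ c.elem))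
    (by rw [card_map_of_injective (MulEquiv.injective _), card_map_of_injective (MulEquiv.injective _), c.card])
    (P.2.map C.subtype) (fun x hx => ⟨⟨x, hAC hx⟩, hP hx, rfl⟩) hle
  refine ⟨(h : G) * g, c.mem_normalizer fun x hx => ?_, ?_⟩
  · rw [← e]
    exact ⟨g * x * g⁻¹, ⟨x, hx, rfl⟩, by simp [mul_assoc]⟩
  · calc (h : G) * g * a * ((h : G) * g)⁻¹ = (h : G) * b * (h : G)⁻¹ := by simp only [b]; group
      _ = b := by rw [mem_centralizer_singleton_iff.1 h.2, mul_inv_cancel_right]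

/-- Fibres over a vector are fused. -/
theorem fibre {a : ↥Q} (ha : π a ≠ 0) : ∃ b : ↥Q, val b * val a * (val b)⁻¹ = val a * z :=
  c.mdl.exists_swap (fun e => ha ((c.mdl.ker a).2 (.inl e))) (fun e => ha ((c.mdl.ker a).2 (.inr e)))

/-- Commutators with `Q`. -/
theorem comm_q {a : G} (ha : a ∈ A) (b : ↥Q) : ∃ u : ↥Q, val u ∈ A ∧ val b * a * (val b)⁻¹ = a * val u ∧
    π u = QuotientGroup.mk' Q ⟨a, c.le ha⟩ • π b + π b := by
  set w : centralizer ({z} : Set G) := ⟨a, c.le ha⟩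
  refine ⟨MulAut.conjNormal w⁻¹ b * b⁻¹, ?_, ?_, ?_⟩
  · have : val (MulAut.conjNormal w⁻¹ b * b⁻¹) = a⁻¹ * (val b * a * (val b)⁻¹) := by
      simp [val, w, MulAut.conjNormal_apply, mul_assoc]
    rw [this]
    exact mul_mem (inv_mem ha) (c.conj_mem (c.q_mem_N b) ha)
  · simp [val, w, MulAut.conjNormal_apply, mul_assoc]
  · rw [c.mdl.pi_mul, c.mdl.pi_inv, ← c.mdl.equiv]
    show (QuotientGroup.mk' Q w⁻¹) • π b + π b = _
    rw [map_inv, c.oth.self_inv (c.mk_mem ha)]

end Ctx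

end CfsgLib.JankoFour.Thompson
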