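import Cfsg.Agent.Lib.JankoFour.Thompson.Labelling
import Cfsg.Agent.Lib.LargeFischer.Thompson.Code
import Cfsg.Agent.Lib.Golay.M24

/-!
# The normaliser of the elementary group modulo it is the Mathieu group
-/

set_option autoImplicit false
set_option linter.unusedSectionVars false
set_option linter.style.haveILetI false
set_option maxHeartbeats 1000000

namespace CfsgLib.JankoFour.Thompson

open Subgroup QuadraticMap
open Cfsg (GolayPt)
open CfsgLib.LargeFischer (fixSub perpSub vadd_self eq_of_vadd)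
open CfsgLib.LargeFischer.Thompson (val elem_comap elem_map' three_dvd Pairing)
open scoped Pointwise

variable {G : Type*} [Group G] [Finite G] {z : G}
  {Q : Subgroup (centralizer ({z} : Set G))} [Q.Normal] {V : Type*} [AddCommGroup V] [Module (ZMod 2) V]
  [DistribMulAction ((centralizer ({z} : Set G)) ⧸ Q) V] [Finite V] {q : QuadraticForm (ZMod 2) V} {π : ↥Q → V}
  {n : (centralizer ({z} : Set G)) ⧸ Q} {M : Subgroup ((centralizer ({z} : Set G)) ⧸ Q)} {φ : ↥M →* ↥Cfsg.Spor.M22}
  {s : V}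
  {A : Subgroup G} {Ab : Subgroup ((centralizer ({z} : Set G)) ⧸ Q)}

namespace Ctx

variable (c : Ctx Q q π n M φ s A Ab)
include c

theorem exists_mathieu : ∃ ψ : ↥(Subgroup.normalizer (A : Set G)) →* Equiv.Perm GolayPt,
    ψ.ker = A.subgroupOf (Subgroup.normalizer (A : Set G)) ∧ ψ.range = Cfsg.M24 ∧
    ∀ t ∈ Ns z A, ∃ a b : GolayPt, a ≠ b ∧ ∀ m : ↥(Subgroup.normalizer (A : Set G)),
      (m : G) * t * (m : G)⁻¹ = t ↔ ψ m • ({a, b} : Set GolayPt) = {a, b} := by
  classical
  set N := Subgroup.normalizer (A : Set G) with hN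
  set B := A.subgroupOf N with hBdef
  have hAN : A ≤ N := Subgroup.le_normalizer
  haveI hnormal : B.Normal := Subgroup.normal_subgroupOf_of_le_normalizer le_rfl
  letI : CommGroup ↥B :=
    { (inferInstance : Group ↥B) with
      mul_comm := fun a b => Subtype.ext (Subtype.ext (c.comm a.2 b.2)) }
  obtain ⟨f, hfA, hpair, hcover⟩ := c.exists_labelling
  let N₀ : Set ↥B := {x | ((x : ↥N) : G) ∈ Ns z A}
  let emb : ↥B → G := fun x => ((x : ↥N) : G)
  have hemb : Function.Injective emb := fun x y e => Subtype.ext (Subtype.ext e)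
  have himg : ∀ S : Set G, S ⊆ (A : Set G) → (emb ⁻¹' S).ncard = S.ncard := fun S hS => by
    refine Set.ncard_preimage_of_injective_subset_range hemb fun x hx => ?_
    exact ⟨⟨⟨x, hAN (hS hx)⟩, hS hx⟩, rfl⟩
  have hP : Pairing N₀ (fun x => (⟨⟨f x, hAN (hfA x)⟩, hfA x⟩ : ↥B)) := by
    refine ⟨fun x => hemb (c.sq x.2), ?_, by simp, ?_, fun d hd => ?_, fun h => h.2.1 rfl,
      fun a b hab => hpair a b hab, fun x hx => ?_⟩
    · rw [hBdef, Nat.card_congr (subgroupOfEquivOfLe hAN).toEquiv, c.card]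
    · rw [show N₀ = emb ⁻¹' Ns z A from rfl, himg _ fun x hx => hx.1, c.Ns_counts.1]
    · rw [show {e | e ∈ N₀ ∧ d * e ∈ N₀} = emb ⁻¹' nb z A (emb d) from rfl, himg _ fun x hx => hx.1.1,
        c.degree hd]
    · obtain ⟨a, b, hab, e⟩ := hcover _ hx
      exact ⟨a, b, hab, hemb e⟩
  obtain ⟨ψ, hker, hrange, hpt⟩ := hP.exists_action (MulAut.conjNormal (G := ↥N) (H := B)) fun m x hx => by
    have := c.Ns_conj m.2 hx
    simpa [N₀, MulAut.conjNormal_apply] using this
  have hk : ψ.ker = B := by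
    rw [hker]
    ext m
    rw [MonoidHom.mem_ker]
    constructor
    · intro hm
      refine c.cent fun a ha => ?_
      have e := congrArg emb (DFunLike.congr_fun hm (⟨⟨a, hAN ha⟩, ha⟩ : ↥B))
      simp only [emb, MulAut.conjNormal_apply, MulAut.one_apply, Subgroup.coe_mul, InvMemClass.coe_inv] at e
      exact mul_inv_eq_iff_eq_mul.1 e
    · intro hm
      refine MulEquiv.ext fun x => hemb ?_
      simp only [emb, MulAut.conjNormal_apply, MulAut.one_apply, Subgroup.coe_mul, InvMemClass.coe_inv]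
      exact mul_inv_eq_iff_eq_mul.2 (c.comm (show (m : G) ∈ A from hm) x.2)
  refine ⟨ψ, hk, eq_of_le_of_card_ge hrange ?_, fun t ht => ?_⟩
  · have h := ψ.ker.card_mul_index
    rw [Subgroup.index_ker, hk, hBdef, Nat.card_congr (subgroupOfEquivOfLe hAN).toEquiv, c.card, show Nat.card ↥N = _ from c.orbit_stab.symm, c.Zs_facts.1] at h
    rw [CfsgLib.Golay.card_M24]
    omega
  · obtain ⟨a, b, hab, hiff⟩ := hpt (⟨⟨t, hAN ht.1⟩, ht.1⟩ : ↥B) ht
    refine ⟨a, b, hab, fun m => ?_⟩
    rw [← hiff m]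
    constructor
    · intro e
      exact hemb (by simpa [emb, MulAut.conjNormal_apply] using e)
    · intro e
      simpa [emb, MulAut.conjNormal_apply] using congrArg emb e

end Ctx

end CfsgLib.JankoFour.Thompson
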