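import Cfsg.Agent.Lib.JankoFour.Thompson.Cosets
import Cfsg.Agent.Lib.LargeFischer.Thompson.Pairs

/-!
# The pair of lines of a coset and the element fixed by the lift of the element of order three
-/

set_option autoImplicit false
set_option linter.unusedSectionVars false
set_option linter.style.haveILetI false
set_option maxHeartbeats 1000000

namespace CfsgLib.JankoFour.Thompson

open Subgroup QuadraticMap
open CfsgLib.LargeFischer (fixSub perpSub vadd_self eq_of_vadd)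
open CfsgLib.LargeFischer.Thompson (val elem_comap elem_map' three_dvd exists_even_three pair_table even_two_swaps)

variable {G : Type*} [Group G] [Finite G] {z : G}
  {Q : Subgroup (centralizer ({z} : Set G))} [Q.Normal] {V : Type*} [AddCommGroup V] [Module (ZMod 2) V]
  [DistribMulAction ((centralizer ({z} : Set G)) ⧸ Q) V] [Finite V] {q : QuadraticForm (ZMod 2) V} {π : ↥Q → V}
  {n : (centralizer ({z} : Set G)) ⧸ Q} {M : Subgroup ((centralizer ({z} : Set G)) ⧸ Q)} {φ : ↥M →* ↥Cfsg.Spor.M22}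
  {s : V}
  {A : Subgroup G} {Ab : Subgroup ((centralizer ({z} : Set G)) ⧸ Q)}

/-- The coset and the element of a pair of lines. -/
structure PairData (Ab : Subgroup ((centralizer ({z} : Set G)) ⧸ Q)) (A : Subgroup G) (T : Fin 6 → V)
    (nt : centralizer ({z} : Set G)) (att : Fin 6 → Fin 6 → (centralizer ({z} : Set G)) ⧸ Q)
    (bb : Fin 6 → Fin 6 → G) : Prop where
  att_mem : ∀ i j, att i j ∈ Ab
  att_ne : ∀ i j, i ≠ j → att i j ≠ 1
  att_rg : ∀ i j, i ≠ j → T i ∈ (rg (att i j) : AddSubgroup V) ∧ T j ∈ (rg (att i j) : AddSubgroup V)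
  att_uniq : ∀ k ∈ Ab, k ≠ 1 → ∀ i j, i ≠ j → T i ∈ (rg k : AddSubgroup V) → T j ∈ (rg k : AddSubgroup V) →
    k = att i j
  att_cover : ∀ k ∈ Ab, k ≠ 1 → ∃ i j, i ≠ j ∧ k = att i j
  att_self : ∀ i, att i i = 1
  bb_mem : ∀ i j, i ≠ j → bb i j ∈ cosetN Q A (att i j)
  bb_fix : ∀ i j, (nt : G) * bb i j = bb i j * (nt : G)
  bb_self : ∀ i, bb i i = 1

namespace Ctx

variable (c : Ctx Q q π n M φ s A Ab)
include c

variable {T : Fin 6 → V} {nt : centralizer ({z} : Set G)} (d : SixData n M Ab s T nt)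
include d

theorem nt_N : (nt : G) ∈ Subgroup.normalizer (A : Set G) := c.mem_N_iff.2 (d.lift.symm ▸ c.n_normalizes)

theorem nt_cube : (nt : G) * nt * nt = 1 := congrArg Subtype.val d.cube

/-- Elements over a coset fixed by the element of order three differ by `z`. -/
theorem fixed_two {a b : G} (ha : a ∈ A) (hb : b ∈ A) (hk : imK Q a = imK Q b)
    (hfa : (nt : G) * a = a * nt) (hfb : (nt : G) * b = b * nt) : b = a ∨ b = a * z := by
  have hab : a * b ∈ A := mul_mem ha hb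
  obtain ⟨u, hu⟩ := (c.imK_eq_one hab).1 (by
    rw [imK_mul (c.le ha) (c.le hb), hk, ← pow_two]
    exact c.oth.elem.2 _ (c.imK_mem hb))
  have hfix : (nt : G) * val u = val u * nt := by
    rw [hu, ← mul_assoc, hfa, mul_assoc, hfb, ← mul_assoc]
  have h := c.mdl.fixed_of_comm (c := nt) (u := u) (Subtype.ext hfix)
  rw [show (QuotientGroup.mk nt : (centralizer ({z} : Set G)) ⧸ Q) = n from d.lift] at h
  have h0 := c.oth.core.nfix _ h
  rcases (c.mdl.ker u).1 h0 with e | e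
  · left
    rw [show val u = 1 from e] at hu
    exact (inv_eq_of_mul_eq_one_right hu.symm).symm.trans (c.inv ha)
  · right
    rw [show val u = z from e] at hu
    rw [hu, ← mul_assoc, c.sq ha, one_mul]

theorem exists_beta {k : (centralizer ({z} : Set G)) ⧸ Q} (hk : k ∈ Ab) (hk1 : k ≠ 1) :
    ∃! b : G, b ∈ cosetN Q A k ∧ (nt : G) * b = b * nt := by
  classical
  have hconj : ∀ a ∈ cosetN Q A k, (nt : G) * a * (nt : G)⁻¹ ∈ cosetN Q A k := fun a ha =>
    ⟨c.Ns_conj (c.nt_N d) ha.1, by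
      rw [c.imK_conj ha.1.1, d.lift, ha.2, ← c.oth.core.commute _ (c.oth.le hk), mul_inv_cancel_right]⟩
  obtain ⟨b, hb, hfb⟩ : ∃ b ∈ cosetN Q A k, (nt : G) * b * (nt : G)⁻¹ = b := by
    by_contra hc
    push Not at hc
    let σ : Equiv.Perm ↥(cosetN Q A k) := Equiv.ofBijective (fun a => ⟨_, hconj a.1 a.2⟩)
      (Finite.injective_iff_bijective.1 fun a a' e =>
        Subtype.ext (mul_left_cancel (mul_right_cancel (congrArg Subtype.val e))))
    have h3 : σ ^ 3 = 1 := Equiv.ext fun a => Subtype.ext (by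
      show (nt : G) * ((nt : G) * ((nt : G) * a * (nt : G)⁻¹) * (nt : G)⁻¹) * (nt : G)⁻¹ = a
      calc _ = ((nt : G) * nt * nt) * a * ((nt : G) * nt * nt)⁻¹ := by group
        _ = a := by rw [c.nt_cube d]; group)
    have h := three_dvd σ h3 fun a e => hc a.1 a.2 (congrArg Subtype.val e)
    rw [Nat.card_coe_set_eq, c.cosetN_card hk hk1] at h
    norm_num at h
  refine ⟨b, ⟨hb, mul_inv_eq_iff_eq_mul.1 hfb⟩, fun b' hb' => ?_⟩
  rcases c.fixed_two d hb.1.1 hb'.1.1.1 (hb.2.trans hb'.1.2.symm) (mul_inv_eq_iff_eq_mul.1 hfb) hb'.2 with e | e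
  · exact e
  · exfalso
    refine c.no_z_pair hb.1 (fun h => hk1 (hb.2 ▸ (c.imK_eq_one hb.1.1).2 h)) ?_
    rw [c.comm c.z_mem hb.1.1, ← e]
    exact hb'.1.1

theorem rg_conj {w k : (centralizer ({z} : Set G)) ⧸ Q} {x : V} (hx : x ∈ (rg k : AddSubgroup V)) :
    w • x ∈ (rg (w * k * w⁻¹) : AddSubgroup V) := by
  obtain ⟨y, rfl⟩ := hx
  exact ⟨w • y, show (w * k * w⁻¹) • w • y + w • y = w • (k • y + y) by
    rw [smul_add, mul_smul, mul_smul, inv_smul_smul]⟩

theorem line_in_rg {k : (centralizer ({z} : Set G)) ⧸ Q} (hk : k ∈ Ab) {i : Fin 6} {x : V} (hx0 : x ≠ 0)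
    (hx : x ∈ ln n (T i)) (h : x ∈ (rg k : AddSubgroup V)) : T i ∈ (rg k : AddSubgroup V) :=
  c.oth.ln_subset (fun _ => c.oth.rg_n hk) h (c.oth.ln_disjoint hx hx0 (Or.inr (Or.inl rfl)))

/-- A lift of a permutation moves lines in commutator spaces. -/
theorem perm_rg {w k : (centralizer ({z} : Set G)) ⧸ Q} (hwN : w ∈ Subgroup.normalizer (Ab : Set _)) (hk : k ∈ Ab)
    {σ : Equiv.Perm (Fin 6)} (hw : ∀ i, w • T i ∈ ln n (T (σ i))) {i : Fin 6}
    (h : T i ∈ (rg k : AddSubgroup V)) : T (σ i) ∈ (rg (w * k * w⁻¹) : AddSubgroup V) :=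
  c.line_in_rg d ((mem_normalizer_iff.1 hwN k).1 hk)
    (fun e => c.T_ne d i (MulAction.injective w (e.trans (smul_zero _).symm))) (hw i) (c.rg_conj d h)

theorem exists_pairs : ∃ att bb, PairData (Q := Q) Ab A T nt att bb := by
  classical
  letI := Fintype.ofFinite ((centralizer ({z} : Set G)) ⧸ Q)
  set S := (((Ab : Set ((centralizer ({z} : Set G)) ⧸ Q))) \ {1}).toFinset with hS
  have hS15 : S.card = 15 := by
    rw [hS, ← Set.ncard_eq_toFinset_card', Set.ncard_sdiff (Set.singleton_subset_iff.2 (one_mem Ab)),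
      Set.ncard_singleton, ← Nat.card_coe_set_eq, SetLike.coe_sort_coe, c.oth.card]
  let I : (centralizer ({z} : Set G)) ⧸ Q → Finset (Fin 6) := fun k =>
    Finset.univ.filter fun i => T i ∈ (rg k : AddSubgroup V)
  have hI : ∀ {k i}, i ∈ I k ↔ T i ∈ (rg k : AddSubgroup V) := fun {k i} => by simp [I]
  have hle : ∀ k ∈ S, (I k).card ≤ 2 := by
    intro k hk
    rw [hS, Set.mem_toFinset] at hk
    by_contra h
    obtain ⟨i, hi, j, hj, r, hr, hij, hir, hjr⟩ := Finset.two_lt_card.1 (not_le.1 h)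
    refine c.not_collinear d hij hir hjr ?_
    rw [c.rg_eq_span d hk.1 hk.2 hij (hI.1 hi) (hI.1 hj)]
    exact hI.1 hr
  have hdc : ∑ k ∈ S, (I k).card = 30 := by
    rw [show ∑ k ∈ S, (I k).card = ∑ i : Fin 6, (S.filter fun k => T i ∈ (rg k : AddSubgroup V)).card from
      Finset.sum_card_bipartiteAbove_eq_sum_card_bipartiteBelow (t := (Finset.univ : Finset (Fin 6)))
        fun k i => T i ∈ (rg k : AddSubgroup V)]
    rw [Finset.sum_const_nat (m := 5) fun i _ => ?_, Finset.card_univ, Fintype.card_fin]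
    rw [← c.five d i, ← Set.ncard_coe_finset]
    congr 1
    ext k
    simp only [Finset.coe_filter, hS, Set.mem_toFinset, Set.mem_setOf_eq]
    exact ⟨fun h => ⟨h.1.1, h.1.2, h.2⟩, fun h => ⟨⟨h.1, h.2.1⟩, h.2.2⟩⟩
  have hI2 : ∀ k ∈ S, (I k).card = 2 :=
    (Finset.sum_eq_sum_iff_of_le hle).1 (by rw [hdc, Finset.sum_const_nat (fun _ _ => rfl), hS15])
  -- every pair occurs
  have hequiv : ∀ (σ : Equiv.Perm (Fin 6)), σ ∈ alternatingGroup (Fin 6) → ∀ k ∈ S, ∃ k' ∈ S, I k' = (I k).image σ := by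
    intro σ hσ k hk
    obtain ⟨w, hwN, -, -, hwT⟩ := c.exists_perm d σ hσ
    have hN := c.mem_N_iff.1 hwN
    have hk' := hk
    rw [hS, Set.mem_toFinset] at hk'
    set k' := QuotientGroup.mk' Q w * k * (QuotientGroup.mk' Q w)⁻¹
    have hmem : k' ∈ S := by
      rw [hS, Set.mem_toFinset]
      exact ⟨(mem_normalizer_iff.1 hN k).1 hk'.1, fun e => hk'.2 (conj_eq_one_iff.1 e)⟩
    refine ⟨k', hmem, (Finset.eq_of_subset_of_card_le ?_ ?_).symm⟩
    · intro i hi
      obtain ⟨l, hl, rfl⟩ := Finset.mem_image.1 hi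
      exact hI.2 (c.perm_rg d hN hk'.1 hwT (hI.1 hl))
    · rw [Finset.card_image_of_injective _ σ.injective, hI2 k hk, hI2 _ hmem]
  have hall : ∀ i j : Fin 6, i ≠ j → ∃ k ∈ S, I k = {i, j} := by
    intro i j hij
    obtain ⟨k₀, hk₀⟩ := Finset.card_pos.1 (show 0 < S.card by omega)
    obtain ⟨a, b, hab, hab'⟩ := Finset.card_eq_two.1 (hI2 k₀ hk₀)
    obtain ⟨r, hr⟩ := (by decide : ∀ a b : Fin 6, ∃ r, r ≠ a ∧ r ≠ b) a b
    obtain ⟨r', hr'⟩ := (by decide : ∀ a b : Fin 6, ∃ r, r ≠ a ∧ r ≠ b) i j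
    obtain ⟨σ, hσ, s0, s1, -⟩ := exists_even_three hab (Ne.symm hr.1) (Ne.symm hr.2)
    obtain ⟨τ, hτ, t0, t1, -⟩ := exists_even_three hij (Ne.symm hr'.1) (Ne.symm hr'.2)
    obtain ⟨k, hk, e⟩ := hequiv (τ * σ⁻¹) (mul_mem hτ (inv_mem hσ)) k₀ hk₀
    refine ⟨k, hk, ?_⟩
    rw [e, hab', Finset.image_insert, Finset.image_singleton, ← s0, ← s1]
    simp [t0, t1]
  have hmaps : Set.MapsTo I (S : Set _) ((Finset.univ : Finset (Fin 6)).powersetCard 2 : Set (Finset (Fin 6))) :=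
    fun k hk => Finset.mem_powersetCard.2 ⟨Finset.subset_univ _, hI2 k hk⟩
  have hinj : Set.InjOn I (S : Set _) := by
    refine Finset.injOn_of_card_image_eq (le_antisymm Finset.card_image_le ?_)
    have hsub : (Finset.univ : Finset (Fin 6)).powersetCard 2 ⊆ S.image I := by
      intro P hP
      obtain ⟨i, j, hij, rfl⟩ := Finset.card_eq_two.1 (Finset.mem_powersetCard.1 hP).2
      exact Finset.mem_image.2 (hall i j hij)
    have h := Finset.card_le_card hsub
    rw [Finset.card_powersetCard, Finset.card_univ, Fintype.card_fin] at h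
    rw [hS15]
    exact le_trans (by decide) h
  choose at0 hat0S hat0 using fun (p : {p : Fin 6 × Fin 6 // p.1 ≠ p.2}) => hall p.1.1 p.1.2 p.2
  let att : Fin 6 → Fin 6 → (centralizer ({z} : Set G)) ⧸ Q := fun i j =>
    if h : i ≠ j then at0 ⟨(i, j), h⟩ else 1
  have hatt : ∀ i j, i ≠ j → att i j ∈ S ∧ I (att i j) = {i, j} := fun i j h => by
    simp only [att, dif_pos h]
    exact ⟨hat0S ⟨(i, j), h⟩, hat0 ⟨(i, j), h⟩⟩
  have hattS : ∀ i j, i ≠ j → att i j ∈ Ab ∧ att i j ≠ 1 := fun i j h => by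
    have := (hatt i j h).1
    rw [hS, Set.mem_toFinset] at this
    exact this
  choose b0 hb0 hb0u using fun (p : {p : Fin 6 × Fin 6 // p.1 ≠ p.2}) =>
    c.exists_beta d (hattS p.1.1 p.1.2 p.2).1 (hattS p.1.1 p.1.2 p.2).2
  refine ⟨att, fun i j => if h : i ≠ j then b0 ⟨(i, j), h⟩ else 1, fun i j => ?_, fun i j h => (hattS i j h).2,
    fun i j h => ⟨hI.1 (by rw [(hatt i j h).2]; exact Finset.mem_insert_self _ _),
      hI.1 (by rw [(hatt i j h).2]; exact Finset.mem_insert_of_mem (Finset.mem_singleton_self _))⟩,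
    fun k hk hk1 i j hij hi hj => ?_, fun k hk hk1 => ?_, fun i => by simp [att], fun i j h => ?_, fun i j => ?_,
    fun i => by simp⟩
  · by_cases h : i ≠ j
    · exact (hattS i j h).1
    · simp only [att, dif_neg h]; exact one_mem _
  · have hkS : k ∈ S := by rw [hS, Set.mem_toFinset]; exact ⟨hk, hk1⟩
    refine hinj hkS (hatt i j hij).1 ?_
    rw [(hatt i j hij).2]
    refine (Finset.eq_of_subset_of_card_le ?_ (by rw [hI2 k hkS, Finset.card_pair hij])).symm
    intro l hl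
    rcases Finset.mem_insert.1 hl with rfl | hl
    · exact hI.2 hi
    · exact Finset.mem_singleton.1 hl ▸ hI.2 hj
  · have hkS : k ∈ S := by rw [hS, Set.mem_toFinset]; exact ⟨hk, hk1⟩
    obtain ⟨i, j, hij, e⟩ := Finset.card_eq_two.1 (hI2 k hkS)
    exact ⟨i, j, hij, hinj hkS (hatt i j hij).1 (e.trans (hatt i j hij).2.symm)⟩
  · simp only [dif_pos h]
    exact (hb0 ⟨(i, j), h⟩).1
  · by_cases h : i ≠ j
    · simp only [dif_pos h]; exact (hb0 ⟨(i, j), h⟩).2
    · simp only [dif_neg h]; simp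

variable {att : Fin 6 → Fin 6 → (centralizer ({z} : Set G)) ⧸ Q} {bb : Fin 6 → Fin 6 → G}
  (p : PairData Ab A T nt att bb)
include p

theorem att_symm (i j : Fin 6) : att j i = att i j := by
  by_cases h : i = j
  · rw [h]
  · exact p.att_uniq _ (p.att_mem j i) (p.att_ne j i (Ne.symm h)) i j h (p.att_rg j i (Ne.symm h)).2
      (p.att_rg j i (Ne.symm h)).1

theorem att_inj {i j i' j' : Fin 6} (h : i ≠ j) (h' : i' ≠ j') (e : att i j = att i' j') :
    (i' = i ∧ j' = j) ∨ (i' = j ∧ j' = i) := by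
  obtain ⟨hi, hj⟩ := p.att_rg i j h
  have key : ∀ r, T r ∈ (rg (att i j) : AddSubgroup V) → r = i ∨ r = j := fun r hr => by
    by_contra hne
    rw [not_or] at hne
    refine c.not_collinear d h (Ne.symm hne.1) (Ne.symm hne.2) ?_
    rw [c.rg_eq_span d (p.att_mem i j) (p.att_ne i j h) h hi hj]
    exact hr
  obtain ⟨hi', hj'⟩ := p.att_rg i' j' h'
  rw [← e] at hi' hj'
  rcases key _ hi' with a | a <;> rcases key _ hj' with b | b
  · exact absurd (a.trans b.symm) h'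
  · exact Or.inl ⟨a, b⟩
  · exact Or.inr ⟨a, b⟩
  · exact absurd (a.trans b.symm) h'

theorem bb_A (i j : Fin 6) : bb i j ∈ A := by
  by_cases h : i = j
  · rw [h, p.bb_self]; exact one_mem _
  · exact (p.bb_mem i j h).1.1

theorem bb_im (i j : Fin 6) : imK Q (bb i j) = att i j := by
  by_cases h : i = j
  · rw [h, p.bb_self, p.att_self, show (1 : G) = ((1 : centralizer ({z} : Set G)) : G) from rfl, imK_coe, map_one]
  · exact (p.bb_mem i j h).2

theorem bb_unique {i j : Fin 6} (h : i ≠ j) {b : G} (hb : b ∈ cosetN Q A (att i j))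
    (hf : (nt : G) * b = b * nt) : b = bb i j := by
  obtain ⟨b₀, -, hu⟩ := c.exists_beta d (p.att_mem i j) (p.att_ne i j h)
  rw [hu b ⟨hb, hf⟩, hu (bb i j) ⟨p.bb_mem i j h, p.bb_fix i j⟩]

theorem bb_symm (i j : Fin 6) : bb j i = bb i j := by
  by_cases h : i = j
  · rw [h]
  · exact c.bb_unique d p h (by rw [← c.att_symm d p i j]; exact p.bb_mem j i (Ne.symm h)) (p.bb_fix j i)

/-- Equivariance. -/
theorem equivariant {w : centralizer ({z} : Set G)} (hwN : (w : G) ∈ Subgroup.normalizer (A : Set G))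
    (hwt : w * nt = nt * w) {σ : Equiv.Perm (Fin 6)} (hwT : ∀ i, QuotientGroup.mk' Q w • T i ∈ ln n (T (σ i)))
    (i j : Fin 6) :
    QuotientGroup.mk' Q w * att i j * (QuotientGroup.mk' Q w)⁻¹ = att (σ i) (σ j) ∧
      (w : G) * bb i j * (w : G)⁻¹ = bb (σ i) (σ j) := by
  by_cases h : i = j
  · subst h
    rw [p.att_self, p.att_self, p.bb_self, p.bb_self]
    constructor <;> group
  have hσ : σ i ≠ σ j := fun e => h (σ.injective e)
  have hN := c.mem_N_iff.1 hwN
  have e : QuotientGroup.mk' Q w * att i j * (QuotientGroup.mk' Q w)⁻¹ = att (σ i) (σ j) :=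
    p.att_uniq _ ((mem_normalizer_iff.1 hN _).1 (p.att_mem i j))
      (fun e => p.att_ne i j h (conj_eq_one_iff.1 e)) _ _ hσ
      (c.perm_rg d hN (p.att_mem i j) hwT (p.att_rg i j h).1) (c.perm_rg d hN (p.att_mem i j) hwT (p.att_rg i j h).2)
  refine ⟨e, c.bb_unique d p hσ ⟨c.Ns_conj hwN (p.bb_mem i j h).1, ?_⟩ ?_⟩
  · rw [c.imK_conj (p.bb_mem i j h).1.1, c.bb_im d p, e]
  · have hc : (w : G) * nt = nt * w := congrArg Subtype.val hwt
    have hc' : (w : G)⁻¹ * nt = nt * (w : G)⁻¹ := (Commute.inv_left (show Commute (w : G) nt from hc)).eq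
    calc (nt : G) * ((w : G) * bb i j * (w : G)⁻¹) = ((nt : G) * w) * bb i j * (w : G)⁻¹ := by group
      _ = (w : G) * ((nt : G) * bb i j) * (w : G)⁻¹ := by rw [← hc]; group
      _ = (w : G) * bb i j * ((w : G)⁻¹ * nt) := by rw [p.bb_fix, hc']; group
      _ = _ := by group

/-- The law of the cosets. -/
theorem att_law {i j r : Fin 6} (hij : i ≠ j) (hir : i ≠ r) (hjr : j ≠ r) : att i j * att i r = att j r := by
  obtain ⟨σ, hσ, rfl, rfl, rfl⟩ := exists_even_three hij hir hjr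
  suffices h0 : att 0 1 * att 0 2 = att 1 2 by
    obtain ⟨w, hwN, -, hwt, hwT⟩ := c.exists_perm d σ hσ
    rw [← (c.equivariant d p hwN hwt hwT 0 1).1, ← (c.equivariant d p hwN hwt hwT 0 2).1,
      ← (c.equivariant d p hwN hwt hwT 1 2).1, ← h0]
    group
  set k := att 0 1 * att 0 2 with hk
  have hkA : k ∈ Ab := mul_mem (p.att_mem _ _) (p.att_mem _ _)
  have hcomm : att 0 2 * att 0 1 = att 0 1 * att 0 2 := congrArg Subtype.val
    (c.oth.elem.1.is_comm.comm (⟨_, p.att_mem 0 2⟩ : ↥Ab) ⟨_, p.att_mem 0 1⟩)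
  have hk1 : k ≠ 1 := fun e => by
    have h := inv_eq_of_mul_eq_one_right e
    rw [c.oth.self_inv (p.att_mem 0 1)] at h
    rcases c.att_inj d p (by decide) (by decide) h with ⟨a, b⟩ | ⟨a, b⟩
    · exact absurd b (by decide)
    · exact absurd a (by decide)
  obtain ⟨a, b, hab, e⟩ := p.att_cover k hkA hk1
  have inv_pair : ∀ τ : Equiv.Perm (Fin 6), τ ∈ alternatingGroup (Fin 6) →
      att (τ 0) (τ 1) * att (τ 0) (τ 2) = k → ({τ a, τ b} : Finset (Fin 6)) = {a, b} := by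
    intro τ hτ hfix
    obtain ⟨w, hwN, -, hwt, hwT⟩ := c.exists_perm d τ hτ
    have h : att (τ a) (τ b) = att a b := by
      rw [← (c.equivariant d p hwN hwt hwT a b).1, ← e]
      conv_rhs => rw [← hfix]
      rw [← (c.equivariant d p hwN hwt hwT 0 1).1, ← (c.equivariant d p hwN hwt hwT 0 2).1, hk]
      group
    rcases c.att_inj d p (fun h => hab (τ.injective h)) hab h with ⟨x, y⟩ | ⟨x, y⟩
    · rw [← x, ← y]
    · rw [← x, ← y, Finset.pair_comm]
  have h1 : ({(Equiv.swap (1 : Fin 6) 2 * Equiv.swap 3 4 : Equiv.Perm (Fin 6)) a, (Equiv.swap (1 : Fin 6) 2 * Equiv.swap 3 4 : Equiv.Perm (Fin 6)) b} :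
      Finset (Fin 6)) = {a, b} := by
    refine inv_pair _ (even_two_swaps (by decide) (by decide)) ?_
    rw [show (Equiv.swap (1 : Fin 6) 2 * Equiv.swap 3 4 : Equiv.Perm (Fin 6)) 0 = 0 by decide,
      show (Equiv.swap (1 : Fin 6) 2 * Equiv.swap 3 4 : Equiv.Perm (Fin 6)) 1 = 2 by decide,
      show (Equiv.swap (1 : Fin 6) 2 * Equiv.swap 3 4 : Equiv.Perm (Fin 6)) 2 = 1 by decide, hcomm]
  have h2 : ({(Equiv.swap (3 : Fin 6) 4 * Equiv.swap 4 5 : Equiv.Perm (Fin 6)) a, (Equiv.swap (3 : Fin 6) 4 * Equiv.swap 4 5 : Equiv.Perm (Fin 6)) b} :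
      Finset (Fin 6)) = {a, b} := by
    refine inv_pair _ (even_two_swaps (by decide) (by decide)) ?_
    rw [show (Equiv.swap (3 : Fin 6) 4 * Equiv.swap 4 5 : Equiv.Perm (Fin 6)) 0 = 0 by decide,
      show (Equiv.swap (3 : Fin 6) 4 * Equiv.swap 4 5 : Equiv.Perm (Fin 6)) 1 = 1 by decide,
      show (Equiv.swap (3 : Fin 6) 4 * Equiv.swap 4 5 : Equiv.Perm (Fin 6)) 2 = 2 by decide]
  have h12 := pair_table a b hab h1 h2
  rw [e]
  have ha : a = 1 ∨ a = 2 := by
    have : a ∈ ({1, 2} : Finset (Fin 6)) := h12 ▸ Finset.mem_insert_self a {b}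
    simpa using this
  have hb : b = 1 ∨ b = 2 := by
    have : b ∈ ({1, 2} : Finset (Fin 6)) := h12 ▸ Finset.mem_insert_of_mem (Finset.mem_singleton_self b)
    simpa using this
  rcases ha with rfl | rfl <;> rcases hb with rfl | rfl
  · exact absurd rfl hab
  · rfl
  · exact c.att_symm d p 1 2
  · exact absurd rfl hab

end Ctx

end CfsgLib.JankoFour.Thompson
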